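import Mathlib
import Cfsg.Agent.H6.MaxClass
import Cfsg.Agent.H6.Basic

/-!
Groups with few fixed points: fixed sets of elements of prime order, their setwise and pointwise
stabilisers, semiregularity, and the two ways in which the maximal fixed sets can sit in a Sylow subgroup.
-/

set_option autoImplicit false
set_option linter.unusedSectionVars false

namespace H85.Fix4

open MulAction

variable {G : Type*} [Group G] {Ω : Type*} [MulAction G Ω]

/-- Setwise stabiliser. -/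
def stab (F : Set Ω) : Subgroup G where
  carrier := {g | ∀ x, g • x ∈ F ↔ x ∈ F}
  one_mem' x := by rw [one_smul]
  mul_mem' {g h} hg hh x := by rw [mul_smul, hg, hh]
  inv_mem' {g} hg x := by rw [← hg (g⁻¹ • x), smul_inv_smul]

/-- Pointwise stabiliser. -/
def pw (F : Set Ω) : Subgroup G where
  carrier := {g | ∀ x ∈ F, g • x = x}
  one_mem' x _ := one_smul G x
  mul_mem' {g h} hg hh x hx := by rw [mul_smul, hh x hx, hg x hx]
  inv_mem' {g} hg x hx := by rw [inv_smul_eq_iff, hg x hx]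

theorem mem_stab {F : Set Ω} {g : G} : g ∈ stab F ↔ ∀ x, g • x ∈ F ↔ x ∈ F := Iff.rfl

theorem mem_pw {F : Set Ω} {g : G} : g ∈ pw F ↔ ∀ x ∈ F, g • x = x := Iff.rfl

theorem pw_le_stab (F : Set Ω) : (pw F : Subgroup G) ≤ stab F := by
  intro g hg x
  refine ⟨fun h => ?_, fun h => by rwa [hg x h]⟩
  have h1 := hg _ h
  rwa [smul_left_cancel g h1] at h

theorem pw_conj {F : Set Ω} {g k : G} (hg : g ∈ stab F) (hk : k ∈ pw F) : g * k * g⁻¹ ∈ pw F := by
  intro x hx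
  rw [mul_smul, mul_smul, hk _ ((mem_stab.1 (inv_mem hg) x).2 hx), smul_inv_smul]

theorem mem_pw_fixedBy (g : G) : g ∈ pw (fixedBy Ω g) := fun _ hx => hx

theorem fixedBy_conj (g w : G) : fixedBy Ω (g * w * g⁻¹) = (fun x => g • x) '' fixedBy Ω w := by
  ext x
  simp only [mem_fixedBy, Set.mem_image, mul_smul, smul_eq_iff_eq_inv_smul g]
  constructor
  · exact fun h => ⟨g⁻¹ • x, h, rfl⟩
  · rintro ⟨y, hy, rfl⟩
    exact hy

theorem ncard_fixedBy_conj (g w : G) : (fixedBy Ω (g * w * g⁻¹)).ncard = (fixedBy Ω w).ncard := by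
  rw [fixedBy_conj]
  exact Set.ncard_image_of_injective _ (MulAction.injective g)

theorem stab_of_commute {g w : G} (h : g * w = w * g) : g ∈ stab (fixedBy Ω w) := by
  intro x
  simp only [mem_fixedBy]
  rw [← mul_smul, ← h, mul_smul]
  exact ⟨fun e => smul_left_cancel g e, fun e => by rw [e]⟩

theorem conj_stab {F : Set Ω} {g h : G} (hh : h ∈ stab ((fun x => g • x) '' F)) : g⁻¹ * h * g ∈ stab F := by
  intro x
  rw [mul_smul, mul_smul]
  have := hh (g • x)
  simp only [Set.mem_image, smul_eq_iff_eq_inv_smul g, exists_eq_right, inv_smul_smul] at this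
  exact this

theorem stab_image {F : Set Ω} {g h : G} (hh : g⁻¹ * h * g ∈ stab F) : h ∈ stab ((fun x => g • x) '' F) := by
  intro x
  simp only [Set.mem_image, smul_eq_iff_eq_inv_smul g, exists_eq_right]
  have := hh (g⁻¹ • x)
  rw [mul_smul, mul_smul, smul_inv_smul] at this
  exact this

theorem mem_stab_of_image {F : Set Ω} {g : G} (h : (fun x => g • x) '' F = F) : g ∈ stab F := by
  intro x
  conv_lhs => rw [← h]
  exact (MulAction.injective g).mem_set_image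

/-- Elements of `stab F` as permutations of `F`. -/
def permHom (F : Set Ω) : stab (G := G) F →* Equiv.Perm F where
  toFun g :=
    { toFun := fun x => ⟨(g : G) • (x : Ω), (g.2 x).2 x.2⟩
      invFun := fun x => ⟨((g⁻¹ : stab (G := G) F) : G) • (x : Ω), ((g⁻¹).2 x).2 x.2⟩
      left_inv := fun x => Subtype.ext (inv_smul_smul (g : G) (x : Ω))
      right_inv := fun x => Subtype.ext (smul_inv_smul (g : G) (x : Ω)) }
  map_one' := Equiv.ext fun x => Subtype.ext (one_smul G (x : Ω))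
  map_mul' g h := Equiv.ext fun x => Subtype.ext (mul_smul (g : G) (h : G) (x : Ω))

theorem permHom_apply (F : Set Ω) (g : stab (G := G) F) (x : F) : ((permHom F g x : F) : Ω) = (g : G) • (x : Ω) :=
  rfl

theorem permHom_eq_one {F : Set Ω} {g : stab (G := G) F} : permHom F g = 1 ↔ (g : G) ∈ pw F := by
  constructor
  · intro h x hx
    exact congrArg Subtype.val (Equiv.ext_iff.1 h ⟨x, hx⟩)
  · exact fun h => Equiv.ext fun x => Subtype.ext (h x x.2)

/-- The hypotheses for one prime: at most four fixed points, at most `k` for elements of order `p`. -/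
structure Setup (G Ω : Type*) [Group G] [MulAction G Ω] (p k : ℕ) : Prop where
  fix4 : ∀ g : G, g ≠ 1 → (fixedBy Ω g).ncard ≤ 4
  le : ∀ g : G, orderOf g = p → (fixedBy Ω g).ncard ≤ k
  pos : 0 < k
  big : k < Nat.card Ω
  ex : ∃ g : G, orderOf g = p ∧ (fixedBy Ω g).ncard = k

/-- An element of order `p` with the maximal number of fixed points. -/
def Mx (Ω : Type*) [MulAction G Ω] (p k : ℕ) (g : G) : Prop := orderOf g = p ∧ (fixedBy Ω g).ncard = k

/-- The fixed set of such an element. -/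
def MaxSet (G : Type*) [Group G] {Ω : Type*} [MulAction G Ω] (p k : ℕ) (F : Set Ω) : Prop :=
  ∃ d : G, Mx Ω p k d ∧ fixedBy Ω d = F

theorem Mx.conj {p k : ℕ} {w : G} (h : Mx Ω p k w) (g : G) : Mx Ω p k (g * w * g⁻¹) := by
  refine ⟨?_, by rw [ncard_fixedBy_conj]; exact h.2⟩
  rw [← MulAut.conj_apply, MulEquiv.orderOf_eq]
  exact h.1

theorem exists_pow_orderOf {p : ℕ} [hp : Fact p.Prime] {P : Subgroup G} (hP : IsPGroup p P) {g : G} (hg : g ∈ P)
    (h1 : g ≠ 1) : ∃ n : ℕ, orderOf (g ^ n) = p := by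
  obtain ⟨j, hj⟩ := IsPGroup.iff_orderOf.1 hP ⟨g, hg⟩
  rw [Subgroup.orderOf_mk] at hj
  rcases j with _ | j
  · exact absurd (orderOf_eq_one_iff.1 (by simpa using hj)) h1
  refine ⟨p ^ j, ?_⟩
  rw [orderOf_pow' _ (pow_ne_zero _ hp.out.ne_zero), hj, Nat.gcd_eq_right (pow_dvd_pow p j.le_succ),
    Nat.pow_div j.le_succ hp.out.pos, Nat.succ_sub (le_refl j), Nat.sub_self, pow_one]

/-- A nontrivial invariant subgroup of a `p`-group has a central element of order `p`. -/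
theorem exists_central_order [Finite G] {p : ℕ} [Fact p.Prime] {P N : Subgroup G} (hP : IsPGroup p P) (hNP : N ≤ P)
    (hn : ∀ x ∈ P, ∀ y ∈ N, x * y * x⁻¹ ∈ N) (hN : N ≠ ⊥) :
    ∃ z ∈ N, orderOf z = p ∧ ∀ x ∈ P, x * z = z * x := by
  haveI : (N.subgroupOf P).Normal := ⟨fun y hy x => hn x x.2 y hy⟩
  have hne : N.subgroupOf P ≠ ⊥ := by
    rw [Ne, Subgroup.subgroupOf_eq_bot, disjoint_iff, inf_eq_left.2 hNP]
    exact hN
  obtain ⟨z, hz, hz1⟩ := (Subgroup.ne_bot_iff_exists_ne_one).1 (H6.inf_center_ne_bot hP hne) |>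
    fun ⟨z, hz⟩ => (⟨z.1, z.2, fun e => hz (Subtype.ext e)⟩ :
      ∃ z, z ∈ N.subgroupOf P ⊓ Subgroup.center P ∧ z ≠ 1)
  obtain ⟨n, hn'⟩ := exists_pow_orderOf hP z.2 (fun e => hz1 (Subtype.ext e))
  refine ⟨(z : G) ^ n, N.pow_mem hz.1 n, hn', fun x hx => ?_⟩
  have h := congrArg Subtype.val (Subgroup.mem_center_iff.1 hz.2 ⟨x, hx⟩)
  exact (show Commute x (z : G) from h).pow_right n

section

variable [Finite Ω] {p k : ℕ} [hp : Fact p.Prime]

theorem smul_pow_eq_of_fix {g : G} {x : Ω} (hx : g • x = x) (n : ℕ) : g ^ n • x = x :=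
  (MulAction.stabilizer G x).pow_mem (show g ∈ MulAction.stabilizer G x from hx) n

theorem eq_of_pw (hs : Setup G Ω p k) {F : Set Ω} (hF : MaxSet G p k F) {P : Subgroup G} (hP : IsPGroup p P)
    {g : G} (hgP : g ∈ P) (hg : g ∈ pw F) (h1 : g ≠ 1) : fixedBy Ω g = F := by
  obtain ⟨d, hd, rfl⟩ := hF
  obtain ⟨n, hn⟩ := exists_pow_orderOf hP hgP h1
  have hsub : fixedBy Ω d ⊆ fixedBy Ω g := fun x hx => hg x hx
  have hsub2 : fixedBy Ω g ⊆ fixedBy Ω (g ^ n) := fun x hx => smul_pow_eq_of_fix hx n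
  refine (Set.eq_of_subset_of_ncard_le hsub ?_ (Set.toFinite _)).symm
  exact (Set.ncard_le_ncard hsub2 (Set.toFinite _)).trans (hd.2 ▸ hs.le _ hn)

theorem mx_of_pw (hs : Setup G Ω p k) {F : Set Ω} (hF : MaxSet G p k F)
    {g : G} (hg : g ∈ pw F) (hgo : orderOf g = p) : Mx Ω p k g ∧ fixedBy Ω g = F := by
  obtain ⟨d, hd, rfl⟩ := hF
  have hsub : fixedBy Ω d ⊆ fixedBy Ω g := fun x hx => hg x hx
  have he : fixedBy Ω d = fixedBy Ω g :=
    Set.eq_of_subset_of_ncard_le hsub (hd.2 ▸ hs.le _ hgo) (Set.toFinite _)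
  exact ⟨⟨hgo, by rw [← he]; exact hd.2⟩, he.symm⟩

theorem MaxSet.ncard {F : Set Ω} (hF : MaxSet G p k F) : F.ncard = k := by
  obtain ⟨d, hd, rfl⟩ := hF; exact hd.2

theorem MaxSet.image {F : Set Ω} (hF : MaxSet G p k F) (g : G) : MaxSet G p k ((fun x => g • x) '' F) := by
  obtain ⟨d, hd, rfl⟩ := hF
  exact ⟨g * d * g⁻¹, hd.conj g, fixedBy_conj g d⟩

theorem card_dvd_of_free (W : Subgroup G) (Y : Set Ω) (hY : ∀ w ∈ W, ∀ y ∈ Y, w • y ∈ Y)
    (hfree : ∀ w ∈ W, ∀ y ∈ Y, w • y = y → w = 1) : Nat.card W ∣ Y.ncard := by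
  letI : MulAction W Y :=
    { smul := fun w y => ⟨(w : G) • (y : Ω), hY w w.2 y y.2⟩
      one_smul := fun y => Subtype.ext (one_smul G (y : Ω))
      mul_smul := fun w v y => Subtype.ext (mul_smul (w : G) (v : G) (y : Ω)) }
  rw [← Nat.card_coe_set_eq, Nat.card_congr
    (MulAction.selfEquivOrbitsQuotientProd (fun y : Y => (?_ : MulAction.stabilizer W y = ⊥))), Nat.card_prod]
  · exact dvd_mul_left _ _
  · rw [eq_bot_iff]
    intro w hw
    exact Subgroup.mem_bot.2 (Subtype.ext (hfree w w.2 y y.2 (congrArg Subtype.val hw)))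

/-- Two different maximal fixed sets, the second stable under the stabiliser of the first in a Sylow subgroup. -/
structure Alpha (Ω : Type*) [MulAction G Ω] (p k : ℕ) (S : Sylow p G) (F₁ F₂ : Set Ω) : Prop where
  h₁ : MaxSet G p k F₁
  h₂ : MaxSet G p k F₂
  ne : F₁ ≠ F₂
  sub : ∀ g ∈ (S : Subgroup G), g ∈ stab F₁ → g ∈ stab F₂
  ex₁ : ∃ w ∈ (S : Subgroup G), w ∈ pw F₁ ∧ orderOf w = p
  ex₂ : ∃ r ∈ (S : Subgroup G), r ∈ stab F₁ ∧ r ∈ pw F₂ ∧ orderOf r = p

theorem Alpha.disjoint (hs : Setup G Ω p k) {S : Sylow p G} {F₁ F₂ : Set Ω} (ha : Alpha Ω p k S F₁ F₂) {g : G}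
    (hg : g ∈ (S : Subgroup G)) (h₁ : g ∈ pw F₁) (h₂ : g ∈ pw F₂) : g = 1 := by
  by_contra h
  exact ha.ne ((eq_of_pw hs ha.h₁ S.isPGroup' hg h₁ h).symm.trans (eq_of_pw hs ha.h₂ S.isPGroup' hg h₂ h))

theorem Alpha.card_dvd (hs : Setup G Ω p k) {S : Sylow p G} {F₁ F₂ : Set Ω} (ha : Alpha Ω p k S F₁ F₂) :
    Nat.card ((S : Subgroup G) ⊓ pw F₁ : Subgroup G) ∣ (F₂ \ F₁).ncard ∧
      Nat.card ((S : Subgroup G) ⊓ stab F₁ ⊓ pw F₂ : Subgroup G) ∣ (F₁ \ F₂).ncard := by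
  constructor
  · refine card_dvd_of_free _ _ (fun w hw y hy => ?_) (fun w hw y hy he => ?_)
    · exact ⟨(mem_stab.1 (ha.sub w hw.1 (pw_le_stab _ hw.2)) y).2 hy.1,
        fun h => hy.2 ((mem_stab.1 (pw_le_stab _ hw.2) y).1 h)⟩
    · by_contra h
      exact hy.2 (eq_of_pw hs ha.h₁ S.isPGroup' hw.1 hw.2 h ▸ (he : y ∈ fixedBy Ω w))
  · refine card_dvd_of_free _ _ (fun w hw y hy => ?_) (fun w hw y hy he => ?_)
    · exact ⟨(mem_stab.1 hw.1.2 y).2 hy.1, fun h => hy.2 ((mem_stab.1 (pw_le_stab _ hw.2) y).1 h)⟩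
    · by_contra h
      exact hy.2 (eq_of_pw hs ha.h₂ S.isPGroup' hw.1.1 hw.2 h ▸ (he : y ∈ fixedBy Ω w))

theorem Alpha.centralizer_le (hs : Setup G Ω p k) {S : Sylow p G} {F₁ F₂ : Set Ω} (ha : Alpha Ω p k S F₁ F₂)
    {w g : G} (hwS : w ∈ (S : Subgroup G)) (hw : w ∈ pw F₁) (hw1 : w ≠ 1) (h : g * w = w * g) : g ∈ stab F₁ := by
  rw [← eq_of_pw hs ha.h₁ S.isPGroup' hwS hw hw1]
  exact stab_of_commute h

variable [Finite G]

/-- Without such a pair, one fixed set belongs to all maximal elements of a Sylow subgroup. -/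
theorem exists_common (hs : Setup G Ω p k) (hb : ∀ (S : Sylow p G) (F₁ F₂ : Set Ω), ¬ Alpha Ω p k S F₁ F₂) :
    ∃ (S : Sylow p G) (F : Set Ω), MaxSet G p k F ∧ (S : Subgroup G) ≤ stab F ∧
      (∀ w ∈ (S : Subgroup G), Mx Ω p k w → fixedBy Ω w = F) ∧
      ∃ d ∈ (S : Subgroup G), d ∈ pw F ∧ orderOf d = p := by
  obtain ⟨d, hd⟩ := hs.ex
  set F := fixedBy Ω d with hFdef
  have hF : MaxSet G p k F := ⟨d, hd, rfl⟩
  have hdF : d ∈ stab F := pw_le_stab _ (mem_pw_fixedBy d)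
  have hdp : IsPGroup p (Subgroup.zpowers (⟨d, hdF⟩ : stab (G := G) F)) := by
    refine IsPGroup.of_card (n := 1) ?_
    rw [Nat.card_zpowers, Subgroup.orderOf_mk, hd.1, pow_one]
  obtain ⟨T, hT⟩ := hdp.exists_le_sylow
  obtain ⟨S, hS⟩ := (T.isPGroup'.map (stab (G := G) F).subtype).exists_le_sylow
  set T' := (T : Subgroup (stab (G := G) F)).map (stab (G := G) F).subtype with hT'
  have hdT : d ∈ T' := ⟨⟨d, hdF⟩, hT (Subgroup.mem_zpowers _), rfl⟩
  have hTeq : (S : Subgroup G) ⊓ stab F = T' := by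
    refine le_antisymm (fun x hx => ?_) (le_inf hS ?_)
    · have hmax := T.is_maximal' (Q := ((S : Subgroup G) ⊓ stab F).subgroupOf (stab F))
        ((S.isPGroup'.to_le inf_le_left).comap_of_injective _ Subtype.coe_injective)
        (fun t ht => Subgroup.mem_subgroupOf.2 ⟨hS ⟨t, ht, rfl⟩, t.2⟩)
      exact ⟨⟨x, hx.2⟩, hmax.le (Subgroup.mem_subgroupOf.2 hx), rfl⟩
    · rintro _ ⟨t, -, rfl⟩
      exact t.2
  have hSle : (S : Subgroup G) ≤ stab F := by
    by_contra hnot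
    set T₀ := T'.subgroupOf (S : Subgroup G)
    have hne : T₀ < ⊤ := by
      refine lt_of_le_of_ne le_top fun e => hnot fun x hx => ?_
      have : (⟨x, hx⟩ : (S : Subgroup G)) ∈ T₀ := e ▸ Subgroup.mem_top _
      rw [Subgroup.mem_subgroupOf, ← hTeq] at this
      exact this.2
    haveI := S.isPGroup'.isNilpotent
    obtain ⟨x, hx, hxT⟩ := SetLike.exists_of_lt (Group.normalizerCondition_of_isNilpotent T₀ hne)
    have hxs : (x : G) ∉ stab F := fun h => hxT (Subgroup.mem_subgroupOf.2 (hTeq ▸ ⟨x.2, h⟩))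
    refine hb S F ((fun y => (x : G) • y) '' F)
      ⟨hF, hF.image _, fun e => hxs (mem_stab_of_image e.symm), fun g hgS hg => ?_,
        ⟨d, hS hdT, mem_pw_fixedBy d, hd.1⟩, ?_⟩
    · refine stab_image ?_
      have hgT : (⟨g, hgS⟩ : (S : Subgroup G)) ∈ T₀ := Subgroup.mem_subgroupOf.2 (hTeq ▸ ⟨hgS, hg⟩)
      have hh := (Subgroup.mem_normalizer_iff''.1 hx _).1 hgT
      rw [Subgroup.mem_subgroupOf, ← hTeq] at hh
      simpa using hh.2
    · refine ⟨(x : G) * d * (x : G)⁻¹, mul_mem (mul_mem x.2 (hS hdT)) (inv_mem x.2), ?_, ?_, (Mx.conj hd _).1⟩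
      · have hdT₀ : (⟨d, hS hdT⟩ : (S : Subgroup G)) ∈ T₀ := Subgroup.mem_subgroupOf.2 hdT
        have hh := (Subgroup.mem_normalizer_iff.1 hx _).1 hdT₀
        rw [Subgroup.mem_subgroupOf, ← hTeq] at hh
        simpa using hh.2
      · rw [← fixedBy_conj]
        exact mem_pw_fixedBy _
  refine ⟨S, F, hF, hSle, fun w hwS hw => ?_, d, hS hdT, mem_pw_fixedBy d, hd.1⟩
  by_contra hne
  set N : Subgroup G := (S : Subgroup G) ⊓ pw F
  have hN : N ≠ ⊥ := fun e => by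
    have : d ∈ N := ⟨hS hdT, mem_pw_fixedBy d⟩
    rw [e, Subgroup.mem_bot] at this
    rw [this, orderOf_one] at hd
    exact hp.out.one_lt.ne hd.1
  obtain ⟨z, hz, hzo, hzc⟩ := exists_central_order S.isPGroup' (inf_le_left : N ≤ S)
    (fun x hx y hy => Subgroup.mem_inf.2 ⟨mul_mem (mul_mem hx (Subgroup.mem_inf.1 hy).1) (inv_mem hx), pw_conj (hSle hx) (Subgroup.mem_inf.1 hy).2⟩) hN
  exact hb S (fixedBy Ω w) F ⟨⟨w, hw, rfl⟩, hF, hne, fun g hg _ => hSle hg,
    ⟨w, hwS, mem_pw_fixedBy w, hw.1⟩, ⟨z, hz.1, stab_of_commute (hzc w hwS).symm, hz.2, hzo⟩⟩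

/-- In the common case a maximal element stabilising `F` fixes exactly `F`. -/
theorem fixedBy_eq_of_stab {S : Sylow p G} {F : Set Ω} (hS : (S : Subgroup G) ≤ stab F)
    (hc : ∀ w ∈ (S : Subgroup G), Mx Ω p k w → fixedBy Ω w = F) {w : G} (hw : w ∈ stab F) (hm : Mx Ω p k w) :
    fixedBy Ω w = F := by
  obtain ⟨h, hh, hhw⟩ := exists_conj_mem (S := S) hS hm.1 hw
  have := hc _ hhw (Mx.conj hm h)
  rw [fixedBy_conj] at this
  have hF : (fun x => h • x) '' F = F := by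
    ext y
    constructor
    · rintro ⟨x, hx, rfl⟩; exact (mem_stab.1 hh x).2 hx
    · exact fun hy => ⟨h⁻¹ • y, (mem_stab.1 (inv_mem hh) y).2 hy, smul_inv_smul h y⟩
  exact (Set.image_injective.2 (MulAction.injective h)) (this.trans hF.symm)
where
  exists_conj_mem {S : Sylow p G} {F : Set Ω} (hS : (S : Subgroup G) ≤ stab F) {w : G} (hwo : orderOf w = p)
      (hw : w ∈ stab F) : ∃ h ∈ stab F, h * w * h⁻¹ ∈ (S : Subgroup G) := by
    have hwp : IsPGroup p (Subgroup.zpowers (⟨w, hw⟩ : stab (G := G) F)) :=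
      IsPGroup.of_card (n := 1) (by rw [Nat.card_zpowers, Subgroup.orderOf_mk, hwo, pow_one])
    obtain ⟨T, hT⟩ := hwp.exists_le_sylow
    obtain ⟨h, hh⟩ := MulAction.exists_smul_eq (stab (G := G) F) T (S.subtype hS)
    refine ⟨h, h.2, ?_⟩
    have hmem : h * ⟨w, hw⟩ * h⁻¹ ∈ (S.subtype hS : Subgroup (stab (G := G) F)) := by
      rw [← hh, Sylow.coe_subgroup_smul]
      exact Subgroup.smul_mem_pointwise_smul _ (MulAut.conj h) _ (hT (Subgroup.mem_zpowers _))
    rw [Sylow.coe_subtype, Subgroup.mem_subgroupOf] at hmem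
    exact hmem

theorem stab_ne_top (hs : Setup G Ω p k) (htr : IsPretransitive G Ω) {F : Set Ω} (hF : MaxSet G p k F) :
    stab (G := G) F ≠ ⊤ := fun htop => by
  have hne : F.Nonempty := by
    rw [← Set.ncard_pos (Set.toFinite _), hF.ncard]; exact hs.pos
  obtain ⟨a, ha⟩ := hne
  obtain ⟨y, hy⟩ : ∃ y, y ∉ F := by
    by_contra hall'
    push Not at hall'
    have : F = Set.univ := Set.eq_univ_of_forall hall'
    have h1 := hF.ncard
    rw [this, Set.ncard_univ] at h1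
    exact hs.big.ne' h1
  obtain ⟨g, hg⟩ := exists_smul_eq G a y
  exact hy (hg ▸ (mem_stab.1 (htop ▸ Subgroup.mem_top g : g ∈ stab F) a).2 ha)

/-- If a Sylow subgroup has all elements of order `p` in the kernel on `F`, the stabiliser of `F` is strongly embedded. -/
theorem embedded_of_all (hs : Setup G Ω p k) (htr : IsPretransitive G Ω) {S : Sylow p G} {F : Set Ω}
    (hF : MaxSet G p k F) (hS : (S : Subgroup G) ≤ stab F)
    (hall : ∀ w ∈ (S : Subgroup G), orderOf w = p → w ∈ pw F) :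
    stab (G := G) F ≠ ⊤ ∧ p ∣ Nat.card (stab (G := G) F) ∧
      ∀ g : G, g ∉ stab F →
        ¬ p ∣ Nat.card ↥(stab (G := G) F ⊓ (stab (G := G) F).map (MulAut.conj g).toMonoidHom) := by
  obtain ⟨d, hd, hdF⟩ := id hF
  refine ⟨stab_ne_top hs htr hF, ?_, fun g hg hdvd => ?_⟩
  · have hmem : d ∈ stab F := hdF ▸ pw_le_stab _ (mem_pw_fixedBy d)
    rw [← hd.1]
    exact Subgroup.orderOf_dvd_natCard _ hmem
  · have key : ∀ z : G, orderOf z = p → z ∈ stab F → fixedBy Ω z = F := by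
      intro z hzo hz
      obtain ⟨h, hh, hhz⟩ := fixedBy_eq_of_stab.exists_conj_mem hS hzo hz
      have hz' : z ∈ pw F := by
        have h1 := pw_conj (inv_mem hh)
          (hall _ hhz (by rw [← MulAut.conj_apply, MulEquiv.orderOf_eq]; exact hzo))
        simpa [mul_assoc] using h1
      exact (mx_of_pw hs hF hz' hzo).2
    obtain ⟨⟨z, hzm⟩, hzo⟩ := exists_prime_orderOf_dvd_card' p hdvd
    rw [Subgroup.orderOf_mk] at hzo
    obtain ⟨hz1, hz2⟩ := Subgroup.mem_inf.1 hzm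
    obtain ⟨y, hy, rfl⟩ := hz2
    have hyo : orderOf y = p := by rwa [MulEquiv.coe_toMonoidHom, MulEquiv.orderOf_eq] at hzo
    have e1 := key _ hzo hz1
    simp only [MulEquiv.coe_toMonoidHom, MulAut.conj_apply, fixedBy_conj, key y hyo hy] at e1
    exact hg (mem_stab_of_image e1)

end

end H85.Fix4
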