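import Cfsg.Agent.H85.Fix4.TwoGroup
import Cfsg.Agent.H85.Fix4.Basic
import Cfsg.Agent.H73.MacWilliamsMain
import Cfsg.Agent.H80.DihFour
import Cfsg.Agent.H31.SmallCentralizer

/-!
A 2-group with two small subgroups `W`, `R` normalised by a subgroup `U` containing the centralisers of the
involutions of `W`, as it arises from two fixed sets of four points, has sectional rank at most four.
-/

set_option autoImplicit false
set_option linter.unusedSectionVars false
set_option linter.style.haveILetI false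

namespace H85.Fix4.TG

open H31.SR
open scoped commutatorElement

universe u

variable {S : Type u} [Group S] [Finite S]

theorem card_pow_cases (h2 : IsPGroup 2 S) (X : Subgroup S) {n : ℕ} (h : 2 ^ n < Nat.card X) :
    2 ^ (n + 1) ≤ Nat.card X :=
  haveI : Fact (Nat.Prime 2) := ⟨Nat.prime_two⟩
  Cfsg.Agent.H9.card_eq_pow_ge h2 h

theorem card_eq_of_bounds (h2 : IsPGroup 2 S) (X : Subgroup S) {n : ℕ} (h : 2 ^ n < Nat.card X)
    (h' : Nat.card X ≤ 2 ^ (n + 1)) : Nat.card X = 2 ^ (n + 1) :=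
  le_antisymm h' (card_pow_cases h2 X h)

/-- Data of the configuration. -/
structure Pair (U W R : Subgroup S) : Prop where
  h2 : IsPGroup 2 S
  hWU : W ≤ U
  hRU : R ≤ U
  hWn : ∀ x ∈ U, ∀ y ∈ W, x * y * x⁻¹ ∈ W
  hRn : ∀ x ∈ U, ∀ y ∈ R, x * y * x⁻¹ ∈ R
  disj : ∀ x ∈ W, x ∈ R → x = 1
  hW1 : W ≠ ⊥
  hW4 : Nat.card W ≤ 4
  hR4 : Nat.card R ≤ 4
  hUR : Nat.card U ≤ 8 * Nat.card R
  hUW : Nat.card U ≤ 8 * Nat.card W
  abR : (∀ x ∈ U, ∀ y ∈ U, ⁅x, y⁆ ∈ R) → Nat.card U ≤ 4 * Nat.card R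
  abW : (∀ x ∈ U, ∀ y ∈ U, ⁅x, y⁆ ∈ W) → Nat.card U ≤ 4 * Nat.card W
  cent : ∀ w ∈ W, w * w = 1 → w ≠ 1 → ∀ g : S, g * w = w * g → g ∈ U

variable {U W R : Subgroup S}

theorem comm_of_card_eight {K : Type u} [Group K] [Finite K] (hK : Nat.card K = 8) (Z : Subgroup K)
    (hZc : ∀ z ∈ Z, ∀ g : K, g * z = z * g) (hZ : 4 ≤ Nat.card Z) (a b : K) : a * b = b * a := by
  by_contra hne
  have haZ : a ∉ Z := fun h => hne (hZc a h b).symm
  set C := Subgroup.centralizer ({a} : Set K)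
  have hlt : Z < C := lt_of_le_of_ne (fun z hz => Subgroup.mem_centralizer_singleton_iff.2 (hZc z hz a).symm)
    fun e => haZ (e ▸ Subgroup.mem_centralizer_singleton_iff.2 rfl)
  have h5 : 4 < Nat.card C := lt_of_le_of_lt hZ (by
    refine lt_of_le_of_ne (Subgroup.card_le_of_le hlt.le) fun e => hlt.ne ?_
    exact Subgroup.eq_of_le_of_card_ge hlt.le e.ge)
  have hd : Nat.card C ∣ 8 := hK ▸ Subgroup.card_subgroup_dvd_card C
  have h8 : Nat.card C = 8 := by
    have := Nat.le_of_dvd (by norm_num) hd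
    interval_cases Nat.card C <;> first | rfl | (exfalso; revert hd; decide)
  have : C = ⊤ := Subgroup.eq_top_of_card_eq C (by rw [h8, hK])
  exact hne (Subgroup.mem_centralizer_singleton_iff.1 (this ▸ Subgroup.mem_top b : b ∈ C)).symm

theorem Pair.not_central (c : Pair U W R) (hU : Nat.card U = 32) :
    ∃ u ∈ U, ∃ x ∈ W, u * x ≠ x * u := by
  by_contra hc
  push Not at hc
  have hR : Nat.card R = 4 := by have := c.hUR; have := c.hR4; omega
  have hW : Nat.card W = 4 := by have := c.hUW; have := c.hW4; omega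
  haveI : (R.subgroupOf U).Normal := ⟨fun y hy g => c.hRn g g.2 y hy⟩
  set π := QuotientGroup.mk' (R.subgroupOf U)
  have hq : Nat.card (U ⧸ R.subgroupOf U) = 8 := by
    have h := Subgroup.card_eq_card_quotient_mul_card_subgroup (R.subgroupOf U)
    rw [Nat.card_congr (Subgroup.subgroupOfEquivOfLe c.hRU).toEquiv, hU, hR] at h
    omega
  have hab : ∀ a b : U ⧸ R.subgroupOf U, a * b = b * a := by
    refine comm_of_card_eight hq ((W.subgroupOf U).map π) ?_ ?_
    · rintro _ ⟨x, hx, rfl⟩ g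
      obtain ⟨g, rfl⟩ := QuotientGroup.mk'_surjective _ g
      rw [← map_mul, ← map_mul]
      exact congrArg π (Subtype.ext (hc g g.2 x hx))
    · have h := card_eq_map_mul π (W.subgroupOf U)
      rw [Nat.card_congr (Subgroup.subgroupOfEquivOfLe c.hWU).toEquiv, hW] at h
      have h1 : W.subgroupOf U ⊓ π.ker = ⊥ := by
        rw [eq_bot_iff]
        rintro x ⟨hx, hx'⟩
        rw [QuotientGroup.ker_mk'] at hx'
        exact Subgroup.mem_bot.2 (Subtype.ext (c.disj x hx hx'))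
      rw [h1, Subgroup.card_bot, mul_one] at h
      omega
  have := c.abR fun x hx y hy => by
    have h := hab (π ⟨x, hx⟩) (π ⟨y, hy⟩)
    rw [← commutatorElement_eq_one_iff_mul_comm, ← map_commutatorElement] at h
    exact (QuotientGroup.eq_one_iff (N := R.subgroupOf U) _).1 h
  omega

theorem Pair.bd_nonabelian (c : Pair U W R) (hU : Nat.card U = 32) : Bd 4 (⊤ : Subgroup S) := by
  haveI : Fact (Nat.Prime 2) := ⟨Nat.prime_two⟩
  obtain ⟨u, hu, x, hx, hne⟩ := c.not_central hU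
  have hN : W ⊓ ⁅U, U⁆ ≠ ⊥ := fun e => by
    have h : ⁅u, x⁆ ∈ W ⊓ ⁅U, U⁆ := Subgroup.mem_inf.2
      ⟨mul_mem (c.hWn u hu x hx) (inv_mem hx), Subgroup.commutator_mem_commutator hu (c.hWU hx)⟩
    rw [e, Subgroup.mem_bot, commutatorElement_eq_one_iff_mul_comm] at h
    exact hne h
  obtain ⟨v, hv, hvo, hvc⟩ := H85.Fix4.exists_central_order (p := 2) (c.h2.to_subgroup U)
    (inf_le_left.trans c.hWU : W ⊓ ⁅U, U⁆ ≤ U) (fun a ha y hy => Subgroup.mem_inf.2
      ⟨c.hWn a ha y (Subgroup.mem_inf.1 hy).1, by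
        have hconj : U.map (MulAut.conj a).toMonoidHom ≤ U := by
          rintro _ ⟨z, hz, rfl⟩
          exact mul_mem (mul_mem ha hz) (inv_mem ha)
        have hmap : (⁅U, U⁆ : Subgroup S).map (MulAut.conj a).toMonoidHom ≤ ⁅U, U⁆ := by
          rw [Subgroup.map_commutator]; exact Subgroup.commutator_mono hconj hconj
        exact hmap ⟨y, (Subgroup.mem_inf.1 hy).2, rfl⟩⟩) hN
  have hv1 : v ≠ 1 := fun e => by rw [e, orderOf_one] at hvo; omega
  have hC : Subgroup.centralizer ({v} : Set S) = U := le_antisymm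
    (fun g hg => c.cent v (Subgroup.mem_inf.1 hv).1 (by rw [← pow_two, ← hvo, pow_orderOf_eq_one]) hv1 g
      (Subgroup.mem_centralizer_singleton_iff.1 hg))
    (fun g hg => Subgroup.mem_centralizer_singleton_iff.2 (hvc g hg))
  exact H31.SR.bd_four _ c.h2 v rfl hv1 (by rw [hC, hU]) (by rw [hC]; exact (Subgroup.mem_inf.1 hv).2)

theorem bd_four_of_card_le (h2 : IsPGroup 2 S) (h : Nat.card S ≤ 32) {q : S} (hq : q * q ≠ 1) :
    Bd 4 (⊤ : Subgroup S) := by
  intro H N hH hs
  by_contra hgt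
  have h5 := H80.DihFour.big_section h2 hs hgt
  have hH32 : Nat.card H = 32 := le_antisymm ((Subgroup.card_le_card_group H).trans h)
    (le_trans (Nat.le_mul_of_pos_right _ Nat.card_pos) h5)
  have hN : N = ⊥ := Subgroup.eq_bot_of_card_le N (by omega)
  have hHt : H = ⊤ := Subgroup.eq_top_of_card_eq H (le_antisymm (Subgroup.card_le_card_group H) (by omega))
  have := hs.sq q (hHt ▸ Subgroup.mem_top q)
  rw [hN, Subgroup.mem_bot] at this
  exact hq this

/-- The abelian case of order sixteen with a non-trivial square. -/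
theorem bd_abelian_sixteen (h2 : IsPGroup 2 S) (U W : Subgroup S) (hU : Nat.card U = 16)
    (hc : ∀ x ∈ U, ∀ y ∈ U, x * y = y * x) (hWU : W ≤ U) (hW : Nat.card W = 4)
    (cent : ∀ w ∈ W, w * w = 1 → w ≠ 1 → ∀ g : S, g * w = w * g → g ∈ U)
    (E : Subgroup S) (hEU : E ≤ U) (hE : ∀ x ∈ E, x * x = 1) (hE8 : 8 ≤ Nat.card E)
    {q : S} (hq : q ∈ U) (hq2 : q * q ≠ 1) : Bd 4 (⊤ : Subgroup S) := by
  haveI : Fact (Nat.Prime 2) := ⟨Nat.prime_two⟩
  let A : Subgroup S :=
    { carrier := {x | x ∈ U ∧ x * x = 1}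
      one_mem' := ⟨U.one_mem, one_mul 1⟩
      mul_mem' := fun {x y} hx hy => ⟨mul_mem hx.1 hy.1, by
        calc x * y * (x * y) = x * (y * x) * y := by group
          _ = (x * x) * (y * y) := by rw [hc y hy.1 x hx.1]; group
          _ = 1 := by rw [hx.2, hy.2, one_mul]⟩
      inv_mem' := fun {x} hx => ⟨inv_mem hx.1, by rw [← mul_inv_rev, hx.2, inv_one]⟩ }
  have hA : Nat.card A = 8 := by
    have h1 : 8 ≤ Nat.card A := hE8.trans (Subgroup.card_le_of_le fun x hx => ⟨hEU hx, hE x hx⟩)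
    have h2' : Nat.card A < 16 := hU ▸ lt_of_le_of_ne (Subgroup.card_le_of_le fun x hx => hx.1) fun e =>
      hq2 ((Subgroup.eq_of_le_of_card_ge (fun x hx => hx.1 : A ≤ U) e.ge).ge hq).2
    obtain ⟨i, hi⟩ := IsPGroup.iff_card.1 (h2.to_subgroup A)
    rw [hi] at h1 h2' ⊢
    have ha : 3 ≤ i := (Nat.pow_le_pow_iff_right (show 1 < 2 by norm_num)).1 h1
    have hb : i < 4 := (Nat.pow_lt_pow_iff_right (show 1 < 2 by norm_num)).1 h2'
    rw [show i = 3 by omega]; norm_num
  have hrel : A.relIndex U = 2 := by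
    have h := relIndex_mul_card (fun x hx => hx.1 : A ≤ U)
    rw [hA, hU] at h
    omega
  set e := q * q with he
  have heA : e ∈ A := by
    have h1 : A.relIndex U = 2 := hrel
    rw [Subgroup.relIndex] at h1
    exact (Subgroup.mul_mem_iff_of_index_two h1 (a := ⟨q, hq⟩) (b := ⟨q, hq⟩)).2 Iff.rfl
  have hsq : ∀ x ∈ U, x * x = 1 ∨ x * x = e := by
    intro x hx
    by_cases h : x * x = 1
    · exact Or.inl h
    right
    have hmem : q * x ∈ A := by
      by_contra h'
      have h1 : Subgroup.relIndex A U = 2 := hrel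
      rw [Subgroup.relIndex] at h1
      have := (Subgroup.mul_mem_iff_of_index_two h1 (a := ⟨q, hq⟩) (b := ⟨x, hx⟩)).2 ⟨fun hh => absurd hh.2 hq2,
        fun hh => absurd hh.2 h⟩
      exact h' this
    have hxx : (q * x) * (q * x) = 1 := hmem.2
    have h3 : e * (x * x) = 1 := by
      rw [← hxx, he]
      calc q * q * (x * x) = q * (q * x) * x := by group
        _ = q * (x * q) * x := by rw [hc q hq x hx]
        _ = q * x * (q * x) := by group
    rw [← inv_eq_of_mul_eq_one_right h3, inv_eq_of_mul_eq_one_right heA.2]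
  have hwU : ∀ w ∈ W, w * w = 1 → w ≠ 1 → ∀ B : Subgroup S, (∀ x ∈ B, x * w = w * x) → B ≤ U :=
    fun w hw hw2 hw1 B hB x hx => cent w hw hw2 hw1 x (hB x hx)
  by_cases hn : ∀ V : Subgroup S, V.Normal → IsMulCommutative V → (∀ a ∈ V, a ^ 2 = 1) → Nat.card V ≤ 4
  · exact bd_of_sr (H73.MW.sectional_le_four h2 hn) _
  push Not at hn
  obtain ⟨V, hVn, hVc, hV2, hV4⟩ := hn
  haveI := hVn
  obtain ⟨B, hBn, -, hBV, hB8⟩ := Cfsg.Agent.H9.exists_normal_between h2 V 3
    (card_pow_cases h2 V (n := 2) (by simpa using hV4)) ⊥ inferInstance bot_le (by simp)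
  haveI := hBn
  have hBsq : ∀ x ∈ B, x * x = 1 := fun x hx => by rw [← pow_two]; exact hV2 x (hBV hx)
  have hBcomm : ∀ x ∈ B, ∀ y ∈ B, x * y = y * x := fun x hx y hy =>
    Cfsg.Agent.H9.comm_of hVc x (hBV hx) y (hBV hy)
  obtain ⟨w, hwW, hw2, hw1⟩ : ∃ w ∈ W, w * w = 1 ∧ w ≠ 1 := by
    obtain ⟨⟨w, hw⟩, hwo⟩ := exists_prime_orderOf_dvd_card' 2 (show 2 ∣ Nat.card W by rw [hW]; norm_num)
    rw [Subgroup.orderOf_mk] at hwo
    exact ⟨w, hw, by rw [← pow_two, ← hwo, pow_orderOf_eq_one], fun e => by rw [e, orderOf_one] at hwo; omega⟩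
  -- the normal subgroup of order eight lies in `U`
  have hBU : B ≤ U := by
    by_cases hwB : w ∈ B
    · exact hwU w hwW hw2 hw1 B fun x hx => hBcomm x hx w hwB
    set P := B ⊓ Subgroup.centralizer ({w} : Set S)
    have hPA : P ≤ A := fun x hx => ⟨cent w hwW hw2 hw1 x (Subgroup.mem_centralizer_singleton_iff.1 hx.2),
      hBsq x hx.1⟩
    have hP := H80.DihFour.card_le_fixed_sq B hBsq hBcomm w (fun v hv => hBn.conj_mem v hv w)
      (fun v _ => by rw [hw2, one_mul, mul_one])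
    rw [hB8] at hP
    have hP4 : 4 ≤ Nat.card P := by
      refine card_pow_cases h2 P (n := 1) ?_
      by_contra hle
      push Not at hle
      exact absurd (hP.trans (Nat.mul_le_mul hle hle)) (by norm_num)
    by_cases hWe : ∀ x ∈ W, x * x = 1
    · have hWA : W ≤ A := fun x hx => ⟨hWU hx, hWe x hx⟩
      by_cases hPW : ∀ x ∈ W, x ∈ P → x = 1
      · exfalso
        have hinj : Function.Injective (fun t : P × W => (⟨(t.1 : S) * t.2, mul_mem (hPA t.1.2) (hWA t.2.2)⟩ : A)) := by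
          rintro ⟨⟨a, ha⟩, ⟨x, hx⟩⟩ ⟨⟨b, hb⟩, ⟨y, hy⟩⟩ h
          have h' : a * x = b * y := congrArg Subtype.val h
          have h1 : b⁻¹ * a = y * x⁻¹ := by
            rw [eq_mul_inv_iff_mul_eq, mul_assoc, h', inv_mul_cancel_left]
          have hyx : y * x⁻¹ = 1 := hPW _ (mul_mem hy (inv_mem hx)) (h1 ▸ mul_mem (inv_mem hb) ha)
          obtain rfl := mul_inv_eq_one.1 hyx
          obtain rfl := mul_right_cancel h'
          rfl
        have hle := Nat.card_le_card_of_injective _ hinj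
        rw [Nat.card_prod, hW, hA] at hle
        omega
      · push Not at hPW
        obtain ⟨x, hxW, hxP, hx1⟩ := hPW
        exact hwU x hxW (hWe x hxW) hx1 B fun y hy => hBcomm y hy x hxP.1
    · push Not at hWe
      obtain ⟨r, hr, hr2⟩ := hWe
      exfalso
      have hrw : r * r = w := by
        have hsub : Subgroup.zpowers r = W := by
          refine Subgroup.eq_of_le_of_card_ge (Subgroup.zpowers_le.2 hr) ?_
          rw [Nat.card_zpowers, hW]
          have hd : orderOf r ∣ 4 := hW ▸ Subgroup.orderOf_dvd_natCard W hr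
          have h12 : ¬ orderOf r ∣ 2 := fun h => hr2 (by rw [← pow_two]; exact orderOf_dvd_iff_pow_eq_one.1 h)
          have := Nat.le_of_dvd (by norm_num) hd
          interval_cases orderOf r <;> simp_all
        obtain ⟨k, hk⟩ := Subgroup.mem_zpowers_iff.1 (hsub ▸ hwW : w ∈ Subgroup.zpowers r)
        have hr4 : r ^ (4 : ℤ) = 1 := by
          have : r ^ (Nat.card W) = 1 := by
            have := pow_card_eq_one' (G := W) (x := ⟨r, hr⟩)
            exact congrArg Subtype.val this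
          rw [hW] at this
          exact_mod_cast this
        rcases Int.even_or_odd' k with ⟨j, rfl | rfl⟩
        · rcases Int.even_or_odd' j with ⟨i, rfl | rfl⟩
          · exfalso; refine hw1 ?_
            rw [← hk, show 2 * (2 * i) = 4 * i by ring, zpow_mul, hr4, one_zpow]
          · rw [← hk, show 2 * (2 * i + 1) = 4 * i + 2 by ring, zpow_add, zpow_mul, hr4, one_zpow, one_mul,
              zpow_two]
        · exfalso
          refine hr2 ?_
          have h' : r ^ (2 * j + 1) * r ^ (2 * j + 1) = 1 := hk.symm ▸ hw2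
          rw [← zpow_add, show 2 * j + 1 + (2 * j + 1) = 4 * j + 2 by ring, zpow_add, zpow_mul, hr4, one_zpow,
            one_mul, zpow_two] at h'
          exact h'
      have hPr : ∀ x ∈ P, r * x = x * r := fun x hx => hc r (hWU hr) x (hPA hx).1
      have hPne : ¬ B ≤ P := by
        intro h
        have hwA : w ∈ A := ⟨hWU hwW, hw2⟩
        exact hwB (((Subgroup.eq_of_le_of_card_ge (h.trans hPA) (by rw [hA, hB8]; norm_num)).ge hwA))
      obtain ⟨x, hxB, hxP⟩ := SetLike.not_le_iff_exists.1 hPne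
      have hPi : P.relIndex B = 2 := by
        have h : P.relIndex B * Nat.card P = Nat.card B := relIndex_mul_card inf_le_left
        have hlt : Nat.card P < 8 := by
          have := lt_of_le_of_ne (Subgroup.card_le_of_le (inf_le_left : P ≤ B)) fun e =>
            hPne (Subgroup.eq_of_le_of_card_ge (inf_le_left : P ≤ B) e.ge).ge
          rwa [hB8] at this
        rw [hB8] at h
        have h5 : Nat.card P ≤ 4 := by
          by_contra hc'
          have := card_pow_cases h2 P (n := 2) (by omega)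
          omega
        rw [le_antisymm h5 hP4] at h
        omega
      have hy : r * x * r⁻¹ ∈ B := hBn.conj_mem x hxB r
      have hmem : x⁻¹ * (r * x * r⁻¹) ∈ P := by
        rw [Subgroup.relIndex] at hPi
        have hP' : (⟨x, hxB⟩ : B) ∉ P.subgroupOf B := hxP
        have h2' : (⟨r * x * r⁻¹, hy⟩ : B) ∉ P.subgroupOf B := fun h => by
          have h' : r * x * r⁻¹ ∈ P := h
          have : x = r⁻¹ * (r * x * r⁻¹) * r := by group
          rw [this, mul_assoc, (show r⁻¹ * (r * x * r⁻¹ * r) = r * x * r⁻¹ by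
            rw [← hPr _ h']; group)] at hxP
          exact hxP h'
        exact (Subgroup.mul_mem_iff_of_index_two hPi (a := ⟨x⁻¹, inv_mem hxB⟩) (b := ⟨r * x * r⁻¹, hy⟩)).2
          ⟨fun h => absurd (inv_inv x ▸ inv_mem (show x⁻¹ ∈ P from h)) hxP, fun h => absurd h h2'⟩
      refine hxP ⟨hxB, Subgroup.mem_centralizer_singleton_iff.2 ?_⟩
      set p := x⁻¹ * (r * x * r⁻¹) with hp
      have h1 : r * x * r⁻¹ = x * p := by rw [hp, mul_inv_cancel_left]
      have h2' : r * r * x * (r * r)⁻¹ = x := by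
        calc r * r * x * (r * r)⁻¹ = r * (r * x * r⁻¹) * r⁻¹ := by group
          _ = r * (x * p) * r⁻¹ := by rw [h1]
          _ = r * x * r⁻¹ * (r * p * r⁻¹) := by group
          _ = x * (p * p) := by rw [h1, hPr p hmem, mul_inv_cancel_right, mul_assoc]
          _ = x := by rw [hBsq p hmem.1, mul_one]
      rw [hrw, mul_inv_eq_iff_eq_mul] at h2'
      exact h2'.symm
  have hBA : B = A := Subgroup.eq_of_le_of_card_ge (fun x hx => ⟨hBU hx, hBsq x hx⟩) (by rw [hA, hB8]; norm_num)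
  have hcentA : ∀ g : S, (∀ x ∈ A, g * x = x * g) → g ∈ U :=
    fun g hg => cent w hwW hw2 hw1 g (hg w ⟨hWU hwW, hw2⟩)
  have hUn : ∀ (g : S), ∀ x ∈ U, g * x * g⁻¹ ∈ U := by
    intro g x hx
    refine hcentA _ fun y hy => ?_
    have hy' : g⁻¹ * y * g ∈ A := by
      rw [← hBA]; simpa using hBn.conj_mem y (hBA.symm ▸ hy) g⁻¹
    have := hc x hx _ hy'.1
    calc g * x * g⁻¹ * y = g * (x * (g⁻¹ * y * g)) * g⁻¹ := by group
      _ = y * (g * x * g⁻¹) := by rw [this]; group
  have hec : ∀ g : S, g * e = e * g := by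
    intro g
    have h1 : g * e * g⁻¹ = g * q * g⁻¹ * (g * q * g⁻¹) := by rw [he]; group
    rcases hsq _ (hUn g q hq) with h | h
    · rw [← h1, conj_eq_one_iff] at h; exact absurd h hq2
    · rw [← h1] at h; exact mul_inv_eq_iff_eq_mul.1 h
  by_cases heW : e ∈ W
  · refine bd_of_card_le ?_
    calc Nat.card (⊤ : Subgroup S) ≤ Nat.card U :=
          Subgroup.card_le_of_le fun g _ => cent e heW heA.2 hq2 g (hec g)
      _ ≤ 2 ^ 4 := by rw [hU]; norm_num
  have hWe : ∀ x ∈ W, x * x = 1 := fun x hx =>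
    (hsq x (hWU hx)).resolve_right fun h => heW (h ▸ mul_mem hx hx)
  let Z : Subgroup S := Subgroup.zpowers e
  have hZ : ∀ x ∈ Z, x = 1 ∨ x = e := by
    intro x hx
    obtain ⟨i, rfl⟩ := Subgroup.mem_zpowers_iff.1 hx
    rcases Int.even_or_odd' i with ⟨j, rfl | rfl⟩
    · left; rw [zpow_mul, zpow_two, heA.2, one_zpow]
    · right; rw [zpow_add, zpow_mul, zpow_two, heA.2, one_zpow, one_mul, zpow_one]
  haveI hZn : Z.Normal := ⟨fun x hx g => by
    rcases hZ x hx with rfl | rfl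
    · simp
    · rw [hec g, mul_inv_cancel_right]; exact Subgroup.mem_zpowers _⟩
  haveI hAn : A.Normal := hBA ▸ hBn
  obtain ⟨x, hxA, hxZ, -, hxc⟩ := H30.SF.exists_layer_top h2 A Z (Subgroup.zpowers_le.2 heA) fun h => by
    have h' := Subgroup.card_le_of_le h
    rw [hA, Nat.card_zpowers, orderOf_eq_prime (by rw [pow_two]; exact heA.2) hq2] at h'
    omega
  obtain ⟨w₀, hw₀, hw₀x⟩ : ∃ w₀ ∈ W, x⁻¹ * w₀ ∈ Z := by
    let φ : Z × W → A := fun t => ⟨(t.1 : S) * t.2,
      mul_mem (Subgroup.zpowers_le.2 heA t.1.2) ⟨hWU t.2.2, hWe _ t.2.2⟩⟩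
    have hinj : Function.Injective φ := by
      rintro ⟨⟨a, ha⟩, ⟨y, hy⟩⟩ ⟨⟨b, hb⟩, ⟨y', hy'⟩⟩ h
      have h' : a * y = b * y' := congrArg Subtype.val h
      have h1 : b⁻¹ * a = y' * y⁻¹ := by rw [eq_mul_inv_iff_mul_eq, mul_assoc, h', inv_mul_cancel_left]
      have hyy : y' * y⁻¹ = 1 := (hZ _ (h1 ▸ mul_mem (inv_mem hb) ha)).resolve_right
        fun h2 => heW (h2 ▸ mul_mem hy' (inv_mem hy))
      obtain rfl := mul_inv_eq_one.1 hyy
      obtain rfl := mul_right_cancel h'
      rfl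
    have hsurj := (hinj.bijective_of_nat_card_le (by
      rw [Nat.card_prod, hW, hA, Nat.card_zpowers, orderOf_eq_prime (by rw [pow_two]; exact heA.2) hq2])).2
    obtain ⟨⟨a, b⟩, hab⟩ := hsurj ⟨x, hxA⟩
    refine ⟨b, b.2, ?_⟩
    have : x = (a : S) * b := (congrArg Subtype.val hab).symm
    rw [this, show ((a : S) * b)⁻¹ * b = (b : S)⁻¹ * (a : S)⁻¹ * b by group]
    simpa using hZn.conj_mem _ (inv_mem a.2) (b : S)⁻¹
  have hw₀1 : w₀ ≠ 1 := fun e' => hxZ (by rw [e', mul_one] at hw₀x; simpa using inv_mem hw₀x)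
  have hmove : ∀ g : S, g * w₀ * g⁻¹ = w₀ ∨ g * w₀ * g⁻¹ = e * w₀ := by
    intro g
    have hm : ⁅g, w₀⁆ ∈ Z := by
      have h0 : w₀ = x * (x⁻¹ * w₀) := by group
      rw [h0, H30.SF.comm_mul_right]
      refine mul_mem (hxc g) (hZn.conj_mem _ ?_ x)
      rw [commutatorElement_def]
      exact mul_mem (hZn.conj_mem _ hw₀x g) (inv_mem hw₀x)
    rcases hZ _ hm with h | h
    · left; rw [H30.SF.conj_commutator, h, one_mul]
    · right; rw [H30.SF.conj_commutator, h]
  have hin : ∀ g h : S, g ∉ U → h ∉ U → g⁻¹ * h ∈ U := by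
    intro g h hg hh
    have hg' : g * w₀ * g⁻¹ = e * w₀ := (hmove g).resolve_left fun h' =>
      hg (cent w₀ hw₀ (hWe _ hw₀) hw₀1 g (mul_inv_eq_iff_eq_mul.1 h'))
    have hh' : h * w₀ * h⁻¹ = e * w₀ := (hmove h).resolve_left fun h' =>
      hh (cent w₀ hw₀ (hWe _ hw₀) hw₀1 h (mul_inv_eq_iff_eq_mul.1 h'))
    refine cent w₀ hw₀ (hWe _ hw₀) hw₀1 _ (mul_inv_eq_iff_eq_mul.1 ?_)
    calc g⁻¹ * h * w₀ * (g⁻¹ * h)⁻¹ = g⁻¹ * (h * w₀ * h⁻¹) * g := by group
      _ = g⁻¹ * (g * w₀ * g⁻¹) * g := by rw [hh', hg']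
      _ = w₀ := by group
  refine bd_four_of_card_le h2 ?_ hq2
  classical
  by_cases hall : ∀ g, g ∈ U
  · calc Nat.card S ≤ Nat.card U := Nat.card_le_card_of_injective (fun g => (⟨g, hall g⟩ : U))
          fun a b h => congrArg Subtype.val h
      _ ≤ 32 := by rw [hU]; norm_num
  push Not at hall
  obtain ⟨t, ht⟩ := hall
  calc Nat.card S ≤ Nat.card (U ⊕ U) := Nat.card_le_card_of_injective
        (fun g => if hg : g ∈ U then Sum.inl ⟨g, hg⟩ else Sum.inr ⟨t⁻¹ * g, hin t g ht hg⟩) (fun a b h => by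
          simp only at h
          split_ifs at h with ha hb hb <;> simp at h <;> exact h)
    _ ≤ 32 := by rw [Nat.card_sum, hU]

/-- **The configuration has sectional rank at most four.** -/
theorem Pair.bd (c : Pair U W R) : Bd 4 (⊤ : Subgroup S) := by
  haveI : Fact (Nat.Prime 2) := ⟨Nat.prime_two⟩
  obtain ⟨w, hwW, hwo, hwc⟩ := H85.Fix4.exists_central_order (p := 2) (c.h2.to_subgroup U) c.hWU c.hWn c.hW1
  have hw2 : w * w = 1 := by rw [← pow_two, ← hwo, pow_orderOf_eq_one]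
  have hw1 : w ≠ 1 := fun e => by rw [e, orderOf_one] at hwo; omega
  have hCw : ∀ g : S, g * w = w * g → g ∈ U := c.cent w hwW hw2 hw1
  have hext : ∀ E : Subgroup S, (∀ x ∈ E, x * x = 1) → (∀ x ∈ E, ∀ y ∈ E, x * y = y * x) →
      (∀ x ∈ E, x * w = w * x) → ∃ E' : Subgroup S, E ≤ E' ∧ w ∈ E' ∧ E' ≤ U ∧ Cfsg.IsElementaryAbelian 2 E' := by
    intro E hE hEc hEw
    refine ⟨Subgroup.closure ((E : Set S) ∪ {w}), fun x hx => Subgroup.subset_closure (Or.inl hx),
      Subgroup.subset_closure (Or.inr rfl), (Subgroup.closure_le _).2 ?_, Cfsg.Agent.H9.elemAb_closure ?_ ?_⟩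
    · rintro x (hx | rfl)
      · exact hCw x (hEw x hx)
      · exact c.hWU hwW
    · rintro a (ha | rfl) b (hb | rfl)
      · exact hEc a ha b hb
      · exact hEw a ha
      · exact (hEw b hb).symm
      · rfl
    · rintro a (ha | rfl)
      · rw [pow_two]; exact hE a ha
      · rw [pow_two]; exact hw2
  by_cases hE : ∀ E : Subgroup S, E ≤ U → Cfsg.IsElementaryAbelian 2 E → Nat.card E ≤ 4
  · refine bd_of_sr (H73.MW.sectional_le_four c.h2 fun B hBn hBc hB2 => ?_) _
    by_contra hgt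
    have hBsq : ∀ x ∈ B, x * x = 1 := fun x hx => by rw [← pow_two]; exact hB2 x hx
    have hBcomm := Cfsg.Agent.H9.comm_of hBc
    by_cases hwB : w ∈ B
    · exact hgt (hE B (fun x hx => hCw x (hBcomm x hx w hwB)) ⟨hBc, hB2⟩)
    set P := B ⊓ Subgroup.centralizer ({w} : Set S)
    have hP := H80.DihFour.card_le_fixed_sq B hBsq hBcomm w (fun v hv => hBn.conj_mem v hv w)
      (fun v _ => by rw [hw2, one_mul, mul_one])
    have hP4 : 4 ≤ Nat.card P := by
      refine card_pow_cases c.h2 P (n := 1) ?_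
      by_contra hle
      push Not at hle
      exact hgt ((hP.trans (Nat.mul_le_mul hle hle)).trans (by norm_num))
    obtain ⟨E', hPE, hwE, hEU, hEe⟩ := hext P (fun x hx => hBsq x hx.1) (fun x hx y hy => hBcomm x hx.1 y hy.1)
      fun x hx => Subgroup.mem_centralizer_singleton_iff.1 hx.2
    have h1 := hE E' hEU hEe
    exact hwB ((Subgroup.eq_of_le_of_card_ge hPE (h1.trans hP4)).ge hwE).1
  push Not at hE
  obtain ⟨E, hEU, hEe, hE4⟩ := hE
  obtain ⟨E', hEE', hwE, hE'U, hE'e⟩ := hext E (fun x hx => by rw [← pow_two]; exact hEe.2 x hx)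
    (Cfsg.Agent.H9.comm_of hEe.1) fun x hx => (hwc x (hEU hx))
  have hE'8 : 8 ≤ Nat.card E' := card_pow_cases c.h2 E' (n := 2) (lt_of_lt_of_le hE4 (Subgroup.card_le_of_le hEE'))
  have hE'sq : ∀ x ∈ E', x * x = 1 := fun x hx => by rw [← pow_two]; exact hE'e.2 x hx
  have hE'c := Cfsg.Agent.H9.comm_of hE'e.1
  by_cases hself : ∀ g ∈ U, (∀ x ∈ E', g * x = x * g) → g ∈ E'
  · rcases Nat.lt_or_ge (Nat.card E') 16 with hlt | hge
    · refine bd_of_sr (H30.SF.sectional_of_self_central_eight c.h2 E' hE'c hE'sq ?_ fun g hg =>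
        hself g (hCw g (hg w hwE)) hg) _
      by_contra hne
      have := card_pow_cases c.h2 E' (n := 3) (by omega)
      omega
    · exact bd_large c E' hE'U hE'c hge E' hE'U hE'sq hE'8
  · push Not at hself
    obtain ⟨g, hgU, hg, hgE⟩ := hself
    refine bd_large c (Subgroup.closure ((E' : Set S) ∪ {g})) ((Subgroup.closure_le _).2 ?_)
      (Cfsg.Agent.H9.comm_of (Subgroup.isMulCommutative_closure ?_)) ?_ E' hE'U hE'sq hE'8
    · rintro x (hx | rfl)
      · exact hE'U hx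
      · exact hgU
    · rintro a (ha | rfl) b (hb | rfl)
      · exact hE'c a ha b hb
      · exact (hg a ha).symm
      · exact hg b hb
      · rfl
    · refine card_pow_cases c.h2 _ (n := 3) (lt_of_le_of_lt hE'8 ?_)
      refine lt_of_le_of_ne (Subgroup.card_le_of_le fun x hx => Subgroup.subset_closure (Or.inl hx)) fun h => hgE ?_
      exact (Subgroup.eq_of_le_of_card_ge (fun x hx => Subgroup.subset_closure (Or.inl hx)) h.ge).ge
        (Subgroup.subset_closure (Or.inr rfl))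
where
  bd_large {U W R : Subgroup S} (c : Pair U W R) (B : Subgroup S) (hBU : B ≤ U)
      (hBc : ∀ x ∈ B, ∀ y ∈ B, x * y = y * x) (hB : 16 ≤ Nat.card B)
      (E : Subgroup S) (hEU : E ≤ U) (hE : ∀ x ∈ E, x * x = 1) (hE8 : 8 ≤ Nat.card E) :
      Bd 4 (⊤ : Subgroup S) := by
    have hU32 : Nat.card U ≤ 32 := c.hUR.trans (by have := c.hR4; omega)
    by_cases hU : 16 < Nat.card U
    · exact c.bd_nonabelian (card_eq_of_bounds c.h2 U (n := 4) hU hU32)
    have hBeq : B = U := Subgroup.eq_of_le_of_card_ge hBU (by omega)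
    subst hBeq
    have hU16 : Nat.card B = 16 := by omega
    have hder : ∀ (K : Subgroup S), ∀ x ∈ B, ∀ y ∈ B, ⁅x, y⁆ ∈ K := fun K x hx y hy => by
      rw [commutatorElement_eq_one_iff_mul_comm.2 (hBc x hx y hy)]; exact K.one_mem
    have hW : Nat.card W = 4 := le_antisymm c.hW4 (by have := c.abW (hder W); omega)
    by_cases hq : ∃ q ∈ B, q * q ≠ 1
    · obtain ⟨q, hq, hq2⟩ := hq
      exact bd_abelian_sixteen c.h2 B W hU16 hBc c.hWU hW c.cent E hEU hE hE8 hq hq2
    push Not at hq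
    have hcfg : H80.DihFour.Cfg B W := by
      refine ⟨c.h2, hq, hU16, c.hWU, hW, fun b hb hb1 => le_antisymm (fun g hg => ?_) fun g hg => ?_⟩
      · exact c.cent b hb (hq b (c.hWU hb)) hb1 g (Subgroup.mem_centralizer_singleton_iff.1 hg)
      · exact Subgroup.mem_centralizer_singleton_iff.2 (hBc g hg b (c.hWU hb))
    exact hcfg.bd

end H85.Fix4.TG
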