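import Cfsg.Agent.H85.Fix4.Two
import Cfsg.Agent.H85.Fix4.FourGroup

/-!
Largest fixed point number four of an involution: a strongly embedded subgroup or sectional 2-rank at most four.
-/

set_option autoImplicit false
set_option linter.unusedSectionVars false
set_option linter.style.haveILetI false

namespace H85.Fix4

open scoped commutatorElement

open MulAction

universe u v

variable {G : Type u} [Group G] [Finite G] {Ω : Type v} [MulAction G Ω] [Finite Ω]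

theorem sign_one [IsSimpleGroup G] (hna : ¬ IsMulCommutative G) [Fintype Ω] [DecidableEq Ω] (g : G) :
    Equiv.Perm.sign (MulAction.toPermHom G Ω g) = 1 := by
  set f := Equiv.Perm.sign.comp (MulAction.toPermHom G Ω) with hf
  rcases (MonoidHom.normal_ker f).eq_bot_or_eq_top with hk | hk
  · refine absurd ?_ hna
    have hinj := (MonoidHom.ker_eq_bot_iff f).1 hk
    exact ⟨⟨fun a b => hinj (by rw [map_mul, map_mul, mul_comm])⟩⟩
  · exact MonoidHom.mem_ker.1 (hk ▸ Subgroup.mem_top g : g ∈ f.ker)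

theorem four_dvd [IsSimpleGroup G] (hna : ¬ IsMulCommutative G) {z : G} (hz : orderOf z = 2) :
    4 ∣ Nat.card Ω - (fixedBy Ω z).ncard := by
  classical
  letI := Fintype.ofFinite Ω
  have h := PS.four_dvd_moved (MulAction.toPermHom G Ω z)
    (by rw [← map_pow, ← hz, pow_orderOf_eq_one, map_one]) (sign_one hna z)
  rw [← Nat.card_eq_fintype_card, ← Nat.card_eq_fintype_card, ← Nat.card_coe_set_eq] at *
  exact h

theorem inv_cases [IsSimpleGroup G] (hna : ¬ IsMulCommutative G) (hs : Setup G Ω 2 4) {z : G}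
    (hz : orderOf z = 2) : (fixedBy Ω z).ncard = 0 ∨ (fixedBy Ω z).ncard = 4 := by
  obtain ⟨d, hdo, hd⟩ := hs.ex
  have h1 := four_dvd (Ω := Ω) hna hdo
  have h2 := four_dvd (Ω := Ω) hna hz
  have h3 := hs.le z hz
  have h4 := hs.big
  rw [hd] at h1
  omega

/-- One fixed set for the maximal involutions of a Sylow subgroup. -/
structure Ctx (S : Sylow 2 G) (F : Set Ω) : Prop where
  hna : ¬ IsMulCommutative G
  hs : Setup G Ω 2 4
  htr : IsPretransitive G Ω
  hF : MaxSet G 2 4 F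
  hS : (S : Subgroup G) ≤ stab F
  hc : ∀ w ∈ (S : Subgroup G), Mx Ω 2 4 w → fixedBy Ω w = F
  hd : ∃ d ∈ (S : Subgroup G), d ∈ pw F ∧ orderOf d = 2

/-- `u` stabilises a second maximal fixed set. -/
def Pr (F : Set Ω) (u : G) : Prop := ∃ F', MaxSet G 2 4 F' ∧ F' ≠ F ∧ u ∈ stab F'

variable [IsSimpleGroup G] {S : Sylow 2 G} {F : Set Ω}

theorem Ctx.mx_of_fix (c : Ctx S F) {z : G} (hz : orderOf z = 2) {x : Ω} (hx : z • x = x) : Mx Ω 2 4 z := by
  refine ⟨hz, (inv_cases c.hna c.hs hz).resolve_left fun h => ?_⟩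
  rw [Set.ncard_eq_zero (Set.toFinite _)] at h
  exact (h ▸ (show x ∈ fixedBy Ω z from hx) : x ∈ (∅ : Set Ω))

theorem Ctx.pw_of_fix (c : Ctx S F) {z : G} (hz : orderOf z = 2) (hzF : z ∈ stab F) {x : Ω} (hx : z • x = x) :
    z ∈ pw F := by
  haveI : Fact (Nat.Prime 2) := ⟨Nat.prime_two⟩
  rw [← fixedBy_eq_of_stab c.hS c.hc hzF (c.mx_of_fix hz hx)]
  exact mem_pw_fixedBy z

theorem Ctx.semireg (c : Ctx S F) {g : G} (hg : g ∈ (S : Subgroup G)) (hg1 : g ≠ 1) {y : Ω} (hy : g • y = y) :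
    y ∈ F := by
  haveI : Fact (Nat.Prime 2) := ⟨Nat.prime_two⟩
  obtain ⟨n, hn⟩ := exists_pow_orderOf S.isPGroup' hg hg1
  have hy' := smul_pow_eq_of_fix hy n
  rw [← c.hc _ ((S : Subgroup G).pow_mem hg n) (c.mx_of_fix hn hy')]
  exact hy'

theorem Ctx.card_dvd (c : Ctx S F) : Nat.card S ∣ Fᶜ.ncard := by
  haveI : Fact (Nat.Prime 2) := ⟨Nat.prime_two⟩
  refine card_dvd_of_free (S : Subgroup G) Fᶜ (fun w hw y hy h => hy ((mem_stab.1 (c.hS hw) y).1 h))
    (fun w hw y hy he => ?_)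
  by_contra h
  exact hy (c.semireg hw h he)

theorem Ctx.sign_img (c : Ctx S F) [Fintype F] [DecidableEq F] {u₀ : G} (hu₀ : u₀ ∈ (S : Subgroup G))
    (hu₀o : orderOf u₀ = 2) (hu₀F : u₀ ∉ pw F) {g : G} (hg : g ∈ (S : Subgroup G)) :
    Equiv.Perm.sign (permHom F ⟨g, c.hS hg⟩) = 1 := by
  classical
  haveI : Fact (Nat.Prime 2) := ⟨Nat.prime_two⟩
  letI := Fintype.ofFinite Ω
  set σ := permHom F ⟨g, c.hS hg⟩ with hσ
  have hpres : ∀ x, x ∉ F ↔ (MulAction.toPermHom G Ω g) x ∉ F := fun x => not_congr (mem_stab.1 (c.hS hg) x).symm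
  set τ : Equiv.Perm {a // ¬ a ∈ F} := (MulAction.toPermHom G Ω g).subtypePerm (p := fun a => ¬ a ∈ F)
    (fun x => (hpres x).symm) with hτ
  have hsplit : MulAction.toPermHom G Ω g = Equiv.Perm.subtypeCongr (p := fun a => a ∈ F) σ τ := by
    refine Equiv.ext fun x => ?_
    by_cases hx : x ∈ F
    · rw [Equiv.Perm.subtypeCongr.left_apply _ _ hx]; rfl
    · rw [Equiv.Perm.subtypeCongr.right_apply _ _ hx]; rfl
  have hone := sign_one (Ω := Ω) c.hna g
  rw [hsplit, Equiv.Perm.sign_subtypeCongr] at hone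
  have hpow : ∀ (j : ℕ) (y : {a // ¬ a ∈ F}), ((τ ^ j) y : Ω) = g ^ j • (y : Ω) := by
    intro j
    induction j with
    | zero => intro y; simp
    | succ j ih =>
      intro y
      rw [pow_succ, Equiv.Perm.mul_apply, ih, pow_succ, mul_smul]
      rfl
  have hτ1 : Equiv.Perm.sign τ = 1 := by
    refine PS.sign_of_semiregular τ (orderOf g) ?_ (fun j y hy => ?_) ?_
    · refine Equiv.ext fun y => Subtype.ext ?_
      rw [hpow, pow_orderOf_eq_one, one_smul]; rfl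
    · by_contra hnd
      have hy' : g ^ j • (y : Ω) = y := by rw [← hpow, hy]
      exact y.2 (c.semireg ((S : Subgroup G).pow_mem hg j) (fun e => hnd (orderOf_dvd_iff_pow_eq_one.2 e)) hy')
    · have hlt : orderOf g < Nat.card S := by
        obtain ⟨d, hd, hdF, hdo⟩ := c.hd
        refine lt_of_le_of_ne (Nat.le_of_dvd Nat.card_pos (Subgroup.orderOf_dvd_natCard _ hg)) fun e => ?_
        haveI : IsCyclic (S : Subgroup G) := isCyclic_of_orderOf_eq_card (⟨g, hg⟩ : (S : Subgroup G))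
          (by rw [Subgroup.orderOf_mk, e])
        letI := Fintype.ofFinite (S : Subgroup G)
        have h2 := IsCyclic.card_pow_eq_one_le (α := (S : Subgroup G)) (n := 2) two_pos
        have h3 : ({1, ⟨d, hd⟩, ⟨u₀, hu₀⟩} : Finset (S : Subgroup G)).card = 3 := by
          rw [Finset.card_insert_of_notMem, Finset.card_insert_of_notMem, Finset.card_singleton]
          · simp only [Finset.mem_singleton, Subtype.mk.injEq]
            exact fun e' => hu₀F (e' ▸ hdF)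
          · simp only [Finset.mem_insert, Finset.mem_singleton, not_or]
            refine ⟨fun e' => ?_, fun e' => ?_⟩
            · have : d = 1 := (congrArg Subtype.val e').symm
              rw [this, orderOf_one] at hdo; omega
            · have : u₀ = 1 := (congrArg Subtype.val e').symm
              rw [this, orderOf_one] at hu₀o; omega
        have h4 := Finset.card_le_card (show ({1, ⟨d, hd⟩, ⟨u₀, hu₀⟩} : Finset (S : Subgroup G)) ⊆
            Finset.univ.filter (fun a => a ^ 2 = 1) from fun a ha => by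
          simp only [Finset.mem_insert, Finset.mem_singleton] at ha
          simp only [Finset.mem_filter, Finset.mem_univ, true_and]
          rcases ha with rfl | rfl | rfl
          · rw [one_pow]
          · exact Subtype.ext (by show d ^ 2 = 1; rw [← hdo, pow_orderOf_eq_one])
          · exact Subtype.ext (by show u₀ ^ 2 = 1; rw [← hu₀o, pow_orderOf_eq_one]))
        omega
      have h2o : 2 * orderOf g ∣ Nat.card S := by
        obtain ⟨i, hi⟩ := IsPGroup.iff_card.1 S.isPGroup'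
        obtain ⟨j, hj⟩ := IsPGroup.iff_orderOf.1 S.isPGroup' ⟨g, hg⟩
        rw [Subgroup.orderOf_mk] at hj
        rw [hi, hj] at hlt ⊢
        rw [← pow_succ']
        exact pow_dvd_pow 2 ((Nat.pow_lt_pow_iff_right one_lt_two).1 hlt)
      refine h2o.trans (c.card_dvd.trans (dvd_of_eq ?_))
      rw [← Nat.card_eq_fintype_card, ← Nat.card_coe_set_eq]
      rfl
  rw [hτ1, mul_one] at hone
  convert hone

theorem Ctx.img_square (c : Ctx S F) {u₀ : G} (hu₀ : u₀ ∈ (S : Subgroup G)) (hu₀o : orderOf u₀ = 2)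
    (hu₀F : u₀ ∉ pw F) {g : G} (hg : g ∈ (S : Subgroup G)) :
    g * g ∈ pw F ∧ (g ∉ pw F → ∀ x : Ω, g • x ≠ x) := by
  classical
  haveI : Fact (Nat.Prime 2) := ⟨Nat.prime_two⟩
  letI := Fintype.ofFinite F
  have hcard : Nat.card F = 4 := by rw [Nat.card_coe_set_eq, c.hF.ncard]
  set σ := permHom F ⟨g, c.hS hg⟩ with hσ
  have hσm : σ ∈ img F (S : Subgroup G) := ⟨⟨g, c.hS hg⟩, hg, rfl⟩
  have h8 : σ ^ 8 = 1 := orderOf_dvd_iff_pow_eq_one.1
    ((Subgroup.orderOf_dvd_natCard _ hσm).trans (PS.two_card_dvd_eight hcard.le _ (isPGroup_img F S.isPGroup')))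
  obtain ⟨h1, h2⟩ := PS.even_two hcard σ (c.sign_img hu₀ hu₀o hu₀F hg) h8
  refine ⟨?_, fun hgF x hx => ?_⟩
  · have h := (permHom_eq_one (F := F) (g := ⟨g, c.hS hg⟩ * ⟨g, c.hS hg⟩)).1 (by rw [map_mul]; exact h1)
    simpa using h
  · have hxF : x ∈ F := c.semireg hg (fun e => hgF (e ▸ one_mem _)) hx
    exact h2 (fun e => hgF (permHom_eq_one.1 e)) ⟨x, hxF⟩ (Subtype.ext hx)

theorem Ctx.card_img (c : Ctx S F) {u₀ : G} (hu₀ : u₀ ∈ (S : Subgroup G)) (hu₀o : orderOf u₀ = 2)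
    (hu₀F : u₀ ∉ pw F) : Nat.card (img F (S : Subgroup G)) = 4 := by
  haveI : Fact (Nat.Prime 2) := ⟨Nat.prime_two⟩
  have hsq : ∀ σ ∈ img F (S : Subgroup G), σ * σ = 1 := by
    rintro _ ⟨⟨g, hg'⟩, hg, rfl⟩
    rw [← map_mul]
    exact permHom_eq_one.2 (c.img_square hu₀ hu₀o hu₀F hg).1
  have hle : Nat.card (img F (S : Subgroup G)) ≤ 4 := by
    refine PS.comm_card_le_four (by rw [Nat.card_coe_set_eq, c.hF.ncard]) _ (isPGroup_img F S.isPGroup')
      fun a ha b hb => ?_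
    have h := hsq (a * b) (mul_mem ha hb)
    calc a * b = (b * a) * (a * b) * (a * b) := by
          rw [show b * a * (a * b) = b * (a * a) * b by group, hsq a ha, mul_one, hsq b hb, one_mul]
      _ = b * a := by rw [mul_assoc, h, mul_one]
  have h2 : Nat.card (img F (S : Subgroup G)) ≠ 2 := fun h =>
    hu₀F (mem_pw_of_index_two c.hna c.hs c.hF c.hc (by rw [relIndex_eq_img c.hS]; exact h) hu₀ hu₀o)
  have h1 : Nat.card (img F (S : Subgroup G)) ≠ 1 := fun h => hu₀F (by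
    rw [Subgroup.card_eq_one] at h
    have hm : permHom F ⟨u₀, c.hS hu₀⟩ ∈ img F (S : Subgroup G) := ⟨⟨u₀, c.hS hu₀⟩, hu₀, rfl⟩
    rw [h, Subgroup.mem_bot] at hm
    exact permHom_eq_one.1 hm)
  obtain ⟨i, hi⟩ := IsPGroup.iff_card.1 (isPGroup_img F S.isPGroup')
  rw [hi] at hle h1 h2 ⊢
  rcases i with _ | _ | _ | i
  · simp at h1
  · simp at h2
  · norm_num
  · have := Nat.one_le_two_pow (n := i)
    rw [pow_succ, pow_succ, pow_succ] at hle
    omega

theorem Ctx.exists_to_F (c : Ctx S F) {F' : Set Ω} (h : MaxSet G 2 4 F') : ∃ g : G, (fun x => g • x) '' F' = F := by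
  haveI : Fact (Nat.Prime 2) := ⟨Nat.prime_two⟩
  obtain ⟨d, hd, rfl⟩ := h
  have hdp : IsPGroup 2 (Subgroup.zpowers d) :=
    IsPGroup.of_card (n := 1) (by rw [Nat.card_zpowers, hd.1, pow_one])
  obtain ⟨T, hT⟩ := hdp.exists_le_sylow
  obtain ⟨g, hg⟩ := MulAction.exists_smul_eq G T S
  refine ⟨g, ?_⟩
  rw [← fixedBy_conj]
  refine c.hc _ ?_ (hd.conj g)
  rw [← hg, Sylow.coe_subgroup_smul]
  exact Subgroup.smul_mem_pointwise_smul d (MulAut.conj g) _ (hT (Subgroup.mem_zpowers d))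

theorem Ctx.stab_eq (c : Ctx S F) {w : G} (hw : Mx Ω 2 4 w) {F' : Set Ω} (h : MaxSet G 2 4 F')
    (hwF : w ∈ stab F') : fixedBy Ω w = F' := by
  haveI : Fact (Nat.Prime 2) := ⟨Nat.prime_two⟩
  obtain ⟨g, hg⟩ := c.exists_to_F h
  have hm : g * w * g⁻¹ ∈ stab F := by
    rw [← hg]; exact stab_image (by simpa [mul_assoc] using hwF)
  have h1 := fixedBy_eq_of_stab c.hS c.hc hm (hw.conj g)
  rw [fixedBy_conj] at h1
  exact Set.image_injective.2 (MulAction.injective g) (h1.trans hg.symm)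

theorem Ctx.pr_conj (c : Ctx S F) {u : G} (huF : u ∈ stab F) (h : Pr F u) (g : G) : Pr F (g * u * g⁻¹) := by
  obtain ⟨F', hF', hne, hu⟩ := h
  by_cases hgF : (fun x => g • x) '' F = F
  · refine ⟨_, hF'.image g, fun e => hne (Set.image_injective.2 (MulAction.injective g) (e.trans hgF.symm)),
      stab_image ?_⟩
    simpa [mul_assoc] using hu
  · exact ⟨_, c.hF.image g, hgF, stab_image (by simpa [mul_assoc] using huF)⟩

theorem Ctx.exists_J (c : Ctx S F) {u : G} (hu : orderOf u = 2) (h : Pr F u) :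
    ∃ d : G, Mx Ω 2 4 d ∧ d * u = u * d ∧ fixedBy Ω d ≠ F := by
  haveI : Fact (Nat.Prime 2) := ⟨Nat.prime_two⟩
  obtain ⟨F', hF', hne, huF⟩ := h
  obtain ⟨g, hg⟩ := c.exists_to_F hF'
  have hu' : g * u * g⁻¹ ∈ stab F := by
    rw [← hg]; exact stab_image (by simpa [mul_assoc] using huF)
  obtain ⟨h, hh, hhu⟩ := fixedBy_eq_of_stab.exists_conj_mem c.hS (p := 2)
    (by rw [← MulAut.conj_apply, MulEquiv.orderOf_eq]; exact hu) hu'
  obtain ⟨d, hdS, hdF, hdo⟩ := c.hd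
  have hN : (S : Subgroup G) ⊓ pw F ≠ ⊥ := fun e => by
    have : d ∈ (S : Subgroup G) ⊓ pw F := Subgroup.mem_inf.2 ⟨hdS, hdF⟩
    rw [e, Subgroup.mem_bot] at this
    rw [this, orderOf_one] at hdo; omega
  obtain ⟨z, hz, hzo, hzc⟩ := exists_central_order S.isPGroup' (inf_le_left : (S : Subgroup G) ⊓ pw F ≤ S)
    (fun x hx y hy => Subgroup.mem_inf.2 ⟨mul_mem (mul_mem hx (Subgroup.mem_inf.1 hy).1) (inv_mem hx),
      pw_conj (c.hS hx) (Subgroup.mem_inf.1 hy).2⟩) hN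
  obtain ⟨hzm, hzF⟩ := mx_of_pw c.hs c.hF (Subgroup.mem_inf.1 hz).2 hzo
  refine ⟨(h * g)⁻¹ * z * (h * g)⁻¹⁻¹, hzm.conj _, ?_, fun e => hne ?_⟩
  · have h1 := hzc _ hhu
    calc (h * g)⁻¹ * z * (h * g)⁻¹⁻¹ * u = (h * g)⁻¹ * (z * (h * (g * u * g⁻¹) * h⁻¹)) * (h * g) := by group
      _ = u * ((h * g)⁻¹ * z * (h * g)⁻¹⁻¹) := by rw [← h1]; group
  · rw [fixedBy_conj, hzF] at e
    have hhF : (fun x => h • x) '' F = F := by
      ext y
      constructor
      · rintro ⟨x, hx, rfl⟩; exact (mem_stab.1 hh x).2 hx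
      · exact fun hy => ⟨h⁻¹ • y, (mem_stab.1 (inv_mem hh) y).2 hy, smul_inv_smul h y⟩
    have : (fun x => (h * g) • x) '' F' = F := by
      rw [show (fun x : Ω => (h * g) • x) = (fun x => h • g • x) from funext fun x => mul_smul h g x,
        ← Set.image_image (fun x => h • x) (fun x => g • x), hg, hhF]
    refine Set.image_injective.2 (MulAction.injective (h * g)) ?_
    rw [this]
    conv_rhs => rw [← e]
    rw [Set.image_image]
    simp only [smul_inv_smul, Set.image_id']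

/-- An odd element commuting with a fixed-point-free involution on four points fixes them. -/
theorem odd_fix {F' : Set Ω} (hF' : F'.ncard = 4) {u y : G} (huF : u ∈ stab F') (hyF : y ∈ stab F')
    (hu2 : u * u = 1) (hu : ∀ x : Ω, u • x ≠ x) (hy : Odd (orderOf y)) (hc : u * y = y * u) : y ∈ pw F' := by
  haveI : Finite (stab (G := G) F') := inferInstance
  refine (permHom_eq_one (F := F') (g := ⟨y, hyF⟩)).1 (PS.odd_commute (by rw [Nat.card_coe_set_eq, hF'])
    (permHom F' ⟨u, huF⟩) _ ?_ (fun i hi => hu i (congrArg Subtype.val hi)) ?_ ?_)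
  · rw [← map_mul]; exact permHom_eq_one.2 (by simp [hu2])
  · exact hy.of_dvd_nat ((orderOf_map_dvd _ _).trans (by rw [Subgroup.orderOf_mk]))
  · rw [← map_mul, ← map_mul]; exact congrArg _ (Subtype.ext hc)

theorem Ctx.same_coset (c : Ctx S F) {u : G} (hu2 : u * u = 1) (huF : u ∈ stab F) (hu : ∀ x : Ω, u • x ≠ x)
    {d₁ d₂ : G} (h₁ : Mx Ω 2 4 d₁) (c₁ : d₁ * u = u * d₁) (n₁ : fixedBy Ω d₁ ≠ F) (h₂ : Mx Ω 2 4 d₂)
    (c₂ : d₂ * u = u * d₂) (hx : d₁ * d₂ ∈ stab F) : d₁ = d₂ := by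
  haveI : Fact (Nat.Prime 2) := ⟨Nat.prime_two⟩
  have e₁ : d₁ * d₁ = 1 := mul_self_of_orderOf h₁.1
  have e₂ : d₂ * d₂ = 1 := mul_self_of_orderOf h₂.1
  have i₁ : d₁⁻¹ = d₁ := inv_eq_of_mul_eq_one_right e₁
  set x := d₁ * d₂ with hxdef
  have hinv : d₁ * x * d₁⁻¹ = x⁻¹ := by
    rw [hxdef, mul_inv_rev, inv_eq_of_mul_eq_one_right e₂, i₁, ← mul_assoc, e₁, one_mul]
  have hinvp : ∀ n : ℕ, d₁ * x ^ n * d₁⁻¹ = (x ^ n)⁻¹ := fun n => by
    rw [← conj_pow, hinv, inv_pow]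
  have hd₁ : d₁ ∉ stab F := fun h => n₁ (fixedBy_eq_of_stab c.hS c.hc h h₁)
  have hxu : Commute x u := Commute.mul_left c₁ c₂
  suffices hx1 : x = 1 by
    rw [hxdef] at hx1
    rw [← inv_eq_of_mul_eq_one_right hx1, i₁]
  by_contra hx1
  obtain ⟨a, m, hm, hn⟩ := Nat.exists_eq_pow_mul_and_not_dvd (orderOf_pos x).ne' 2 (by norm_num)
  have hy1 : x ^ 2 ^ a = 1 := by
    by_contra hy
    have hyF : x ^ 2 ^ a ∈ stab F := (stab F).pow_mem hx _
    have hodd : Odd (orderOf (x ^ 2 ^ a)) := by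
      rw [orderOf_pow' _ (pow_ne_zero _ two_ne_zero), hn, Nat.gcd_eq_right (dvd_mul_right _ _),
        Nat.mul_div_cancel_left _ (Nat.two_pow_pos a)]
      rw [← Nat.not_even_iff_odd, even_iff_two_dvd]; exact hm
    have hyu : u * x ^ 2 ^ a = x ^ 2 ^ a * u := (hxu.pow_left _).symm
    set F'' := (fun p => d₁ • p) '' F with hF''
    have hne : F'' ≠ F := fun e => hd₁ (mem_stab_of_image e)
    have hncard : F''.ncard = 4 := (c.hF.image d₁).ncard
    have p₁ := odd_fix c.hF.ncard huF hyF hu2 hu hodd hyu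
    have p₂ : x ^ 2 ^ a ∈ pw F'' := by
      refine odd_fix hncard ?_ ?_ hu2 hu hodd hyu
      · refine stab_image ?_
        rwa [mul_assoc, ← c₁, ← mul_assoc, inv_mul_cancel, one_mul]
      · refine stab_image ?_
        have := hinvp (2 ^ a)
        rw [i₁] at this ⊢
        rw [this]
        exact inv_mem hyF
    have hsub : F ∪ F'' ⊆ fixedBy Ω (x ^ 2 ^ a) := fun p hp => hp.elim (p₁ p) (p₂ p)
    have h5 : 4 < (F ∪ F'').ncard := by
      rw [← c.hF.ncard]
      refine Set.ncard_lt_ncard (Set.ssubset_iff_subset_ne.2 ⟨Set.subset_union_left, fun e => hne ?_⟩) (Set.toFinite _)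
      exact Set.eq_of_subset_of_ncard_le (e ▸ Set.subset_union_right) (by rw [hncard, c.hF.ncard]) (Set.toFinite _)
    have := (Set.ncard_le_ncard hsub (Set.toFinite _)).trans (c.hs.fix4 _ hy)
    omega
  rcases a with _ | b
  · exact hx1 (by simpa using hy1)
  set z := x ^ 2 ^ b with hz
  have hzo : orderOf z = 2 := by
    refine orderOf_of_sq (by rw [hz, ← pow_add, ← two_mul, ← pow_succ']; exact hy1) fun e => ?_
    have h := orderOf_dvd_of_pow_eq_one (show x ^ 2 ^ b = 1 from e)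
    rw [hn] at h
    have := Nat.le_of_dvd (Nat.two_pow_pos b) ((dvd_mul_right _ m).trans h)
    rw [pow_succ] at this
    have := Nat.one_le_two_pow (n := b)
    omega
  have hzF : z ∈ stab F := (stab F).pow_mem hx _
  have hzd : d₁ * z = z * d₁ := by
    have h := hinvp (2 ^ b)
    rw [← hz, inv_eq_of_mul_eq_one_right (mul_self_of_orderOf hzo)] at h
    exact mul_inv_eq_iff_eq_mul.1 h
  have hzfree : ∀ p : Ω, z • p ≠ p := by
    intro p hp
    have hpw := c.pw_of_fix hzo hzF hp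
    obtain ⟨-, hfix⟩ := mx_of_pw c.hs c.hF hpw hzo
    exact hd₁ (hfix ▸ stab_of_commute hzd)
  have hm' : Mx Ω 2 4 (d₁ * z) := by
    rcases b with _ | b
    · rw [hz, pow_zero, pow_one, hxdef, ← mul_assoc, e₁, one_mul]; exact h₂
    · have : d₁ * z = x ^ 2 ^ b * d₁ * (x ^ 2 ^ b)⁻¹ := by
        have h := hinvp (2 ^ b)
        rw [i₁] at h
        have hzz : (x ^ 2 ^ b)⁻¹ * (x ^ 2 ^ b)⁻¹ = z := by
          rw [← mul_inv_rev, ← pow_add, ← two_mul, ← pow_succ', ← hz,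
            inv_eq_of_mul_eq_one_right (mul_self_of_orderOf hzo)]
        calc d₁ * z = d₁ * ((x ^ 2 ^ b)⁻¹ * (x ^ 2 ^ b)⁻¹) := by rw [hzz]
          _ = d₁ * (d₁ * x ^ 2 ^ b * d₁) * (x ^ 2 ^ b)⁻¹ := by rw [h, mul_assoc]
          _ = x ^ 2 ^ b * d₁ * (x ^ 2 ^ b)⁻¹ := by rw [← mul_assoc, ← mul_assoc, e₁, one_mul]
      rw [this]; exact h₁.conj _
  have hfix := c.stab_eq hm' ⟨d₁, h₁, rfl⟩ (stab_of_commute (by rw [mul_assoc, hzd, ← mul_assoc]))
  have hne : (fixedBy Ω d₁).Nonempty := by rw [← Set.ncard_pos (Set.toFinite _), h₁.2]; norm_num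
  obtain ⟨p, hp⟩ := hne
  refine hzfree p ?_
  have h1 : (d₁ * z) • p = p := by rw [← hfix] at hp; exact hp
  rw [mul_smul] at h1
  exact smul_left_cancel d₁ (h1.trans (Eq.symm hp))

/-- At most one involution of the kernel centralises an involution stabilising two fixed sets. -/
theorem Ctx.unique (c : Ctx S F) {u : G} (huo : orderOf u = 2) (huF : u ∈ stab F) (hnp : u ∉ pw F)
    (hpr : Pr F u) {e₁ e₂ : G} (h₁ : e₁ ∈ pw F) (h₂ : e₂ ∈ pw F) (o₁ : orderOf e₁ = 2) (o₂ : orderOf e₂ = 2)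
    (c₁ : e₁ * u = u * e₁) (c₂ : e₂ * u = u * e₂) : e₁ = e₂ := by
  haveI : Fact (Nat.Prime 2) := ⟨Nat.prime_two⟩
  by_contra hne
  have hu : ∀ x : Ω, u • x ≠ x := fun x hx => hnp (c.pw_of_fix huo huF hx)
  let X : Set (Set Ω) := {F' | F' ≠ F ∧ ∃ g : G, g * u = u * g ∧ F' = (fun x => g • x) '' F}
  let J := {d : G // Mx Ω 2 4 d ∧ d * u = u * d ∧ fixedBy Ω d ≠ F}
  have hJX : Nat.card J ≤ Nat.card X := by
    refine Nat.card_le_card_of_injective (fun d : J => (⟨(fun x => (d : G) • x) '' F,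
      fun e => d.2.2.2 (fixedBy_eq_of_stab c.hS c.hc (mem_stab_of_image e) d.2.1), d, d.2.2.1, rfl⟩ : X)) ?_
    intro d d' h
    have h' : (fun x => (d : G) • x) '' F = (fun x => (d' : G) • x) '' F := congrArg Subtype.val h
    refine Subtype.ext (c.same_coset (mul_self_of_orderOf huo) huF hu d.2.1 d.2.2.1 d.2.2.2 d'.2.1 d'.2.2.1
      (mem_stab_of_image ?_))
    rw [show (fun x : Ω => ((d : G) * (d' : G)) • x) = (fun x => (d : G) • (d' : G) • x) from
      funext fun x => mul_smul _ _ x, ← Set.image_image (fun x => (d : G) • x) (fun x => (d' : G) • x), ← h',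
      Set.image_image]
    simp only [← mul_smul, mul_self_of_orderOf d.2.1.1, one_smul, Set.image_id']
  choose g hg hgF using fun F' : X => F'.2.2
  let ee : Bool → G := fun b => if b then e₁ else e₂
  have hee : ∀ b, ee b ∈ pw F ∧ orderOf (ee b) = 2 ∧ ee b * u = u * ee b := fun b => by
    cases b
    · exact ⟨h₂, o₂, c₂⟩
    · exact ⟨h₁, o₁, c₁⟩
  have hmx : ∀ b, Mx Ω 2 4 (ee b) ∧ fixedBy Ω (ee b) = F := fun b => mx_of_pw c.hs c.hF (hee b).1 (hee b).2.1
  have hXJ : Nat.card (X × Bool) ≤ Nat.card J := by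
    refine Nat.card_le_card_of_injective (fun t : X × Bool => (⟨g t.1 * ee t.2 * (g t.1)⁻¹,
      (hmx t.2).1.conj _, ?_, by rw [fixedBy_conj, (hmx t.2).2, ← hgF]; exact t.1.2.1⟩ : J)) ?_
    · exact (Commute.mul_left (Commute.mul_left (hg t.1) (hee t.2).2.2) (Commute.inv_left (hg t.1))).eq
    · rintro ⟨A, b⟩ ⟨A', b'⟩ h
      have h' : g A * ee b * (g A)⁻¹ = g A' * ee b' * (g A')⁻¹ := congrArg Subtype.val h
      have hA : A = A' := by
        have := congrArg (fixedBy Ω) h'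
        rw [fixedBy_conj, fixedBy_conj, (hmx b).2, (hmx b').2, ← hgF, ← hgF] at this
        exact Subtype.ext this
      subst hA
      have hb := mul_left_cancel (mul_right_cancel h')
      cases b <;> cases b' <;> first | rfl | exact absurd hb hne | exact absurd hb.symm hne
  obtain ⟨d, hd⟩ := c.exists_J huo hpr
  have hpos : 0 < Nat.card X := lt_of_lt_of_le (Finite.card_pos_iff.2 (⟨⟨d, hd⟩⟩ : Nonempty J)) hJX
  rw [Nat.card_prod, Nat.card_eq_fintype_card (α := Bool), Fintype.card_bool] at hXJ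
  omega

theorem Ctx.exists_pr (c : Ctx S F) (hse : ¬ Cfsg.IsStronglyEmbedded (stab (G := G) F)) :
    ∃ u ∈ (S : Subgroup G), orderOf u = 2 ∧ u ∉ pw F ∧ Pr F u := by
  haveI : Fact (Nat.Prime 2) := ⟨Nat.prime_two⟩
  by_contra hno
  push Not at hno
  refine hse ⟨stab_ne_top c.hs c.htr c.hF, ?_, fun g hg => ?_⟩
  · obtain ⟨d, hdS, -, hdo⟩ := c.hd
    exact even_iff_two_dvd.2 (hdo ▸ Subgroup.orderOf_dvd_natCard _ (c.hS hdS))
  rw [← Nat.not_even_iff_odd, even_iff_two_dvd]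
  intro hdvd
  obtain ⟨⟨z, hzm⟩, hzo⟩ := exists_prime_orderOf_dvd_card' 2 hdvd
  rw [Subgroup.orderOf_mk] at hzo
  obtain ⟨hz, y, hy, hyz⟩ := Subgroup.mem_inf.1 hzm |>.imp_right Subgroup.mem_map.1
  have hz' : z ∈ stab ((fun x => g • x) '' F) := by
    refine stab_image ?_
    rw [← hyz]
    simpa [mul_assoc] using hy
  have hne : (fun x => g • x) '' F ≠ F := fun e => hg (mem_stab_of_image e)
  have hzp : z ∉ pw F := fun h => by
    obtain ⟨hm, hfix⟩ := mx_of_pw c.hs c.hF h hzo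
    exact hne ((c.stab_eq hm (c.hF.image g) hz').symm.trans hfix)
  obtain ⟨h, hh, hhz⟩ := fixedBy_eq_of_stab.exists_conj_mem c.hS hzo hz
  refine hno (h * z * h⁻¹) hhz (by rw [← MulAut.conj_apply, MulEquiv.orderOf_eq]; exact hzo) (fun hpw => hzp ?_)
    (c.pr_conj hz ⟨_, c.hF.image g, hne, hz'⟩ h)
  have := pw_conj (inv_mem hh) hpw
  simpa [mul_assoc] using this

theorem Ctx.pr_coset (c : Ctx S F) {u₀ : G} (hu₀ : u₀ ∈ (S : Subgroup G)) (hu₀o : orderOf u₀ = 2)
    (hu₀F : u₀ ∉ pw F) (hpr : Pr F u₀) {w : G} (hw : w ∈ (S : Subgroup G)) (hwF : w ∉ pw F) :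
    ∃ q ∈ (S : Subgroup G) ⊓ pw F, orderOf (w * q) = 2 ∧ Pr F (w * q) := by
  haveI : Fact (Nat.Prime 2) := ⟨Nat.prime_two⟩
  set σ := permHom F ⟨w, c.hS hw⟩ with hσ
  have hσ2 : σ * σ = 1 := by rw [hσ, ← map_mul]; exact permHom_eq_one.2 (c.img_square hu₀ hu₀o hu₀F hw).1
  have hσ1 : σ ≠ 1 := fun e => hwF (permHom_eq_one.1 e)
  set M := (S : Subgroup G) ⊓ ((Subgroup.zpowers σ).comap (permHom F)).map (stab F).subtype with hM
  have hMs : M ≤ stab F := inf_le_left.trans c.hS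
  have hMimg : img F M = Subgroup.zpowers σ := by
    refine le_antisymm ?_ (Subgroup.zpowers_le.2 ⟨⟨w, c.hS hw⟩, ⟨hw, ⟨w, c.hS hw⟩, Subgroup.mem_zpowers σ, rfl⟩, rfl⟩)
    rintro _ ⟨⟨g, hg⟩, ⟨-, ⟨g', hg'⟩, hmem, rfl⟩, rfl⟩
    exact hmem
  have hMpw : M ⊓ pw F = (S : Subgroup G) ⊓ pw F := by
    refine le_antisymm (inf_le_inf_right _ inf_le_left) fun g hg => ⟨⟨(Subgroup.mem_inf.1 hg).1,
      ⟨g, pw_le_stab F (Subgroup.mem_inf.1 hg).2⟩, ?_, rfl⟩, (Subgroup.mem_inf.1 hg).2⟩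
    rw [SetLike.mem_coe, Subgroup.mem_comap, permHom_eq_one.2 (Subgroup.mem_inf.1 hg).2]
    exact one_mem _
  have hrel : M.relIndex S = 2 := by
    have h1 := H31.SR.relIndex_mul_card (inf_le_left : M ≤ (S : Subgroup G))
    have h2 := card_eq_pw_mul_img hMs
    have h3 := card_eq_pw_mul_img c.hS
    have hσo : Nat.card (Subgroup.zpowers σ) = 2 := by
      rw [Nat.card_zpowers]; exact orderOf_eq_prime (by rw [pow_two]; exact hσ2) hσ1
    rw [hMimg, hMpw, hσo] at h2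
    rw [c.card_img hu₀ hu₀o hu₀F] at h3
    have hpos : 0 < Nat.card ((S : Subgroup G) ⊓ pw F : Subgroup G) := Nat.card_pos
    rw [h2, h3] at h1
    nlinarith
  rcases H6.thompson_transfer S M inf_le_left hrel u₀ hu₀o with ⟨N, hN, hNi, -⟩ | ⟨g, hgM, hg⟩
  · haveI := hN
    exact absurd hNi (no_index_two c.hna N)
  obtain ⟨⟨u', hu'F⟩, hmem, rfl⟩ := hg
  have hu'o : orderOf (g * u₀ * g⁻¹) = 2 := by rw [← MulAut.conj_apply, MulEquiv.orderOf_eq]; exact hu₀o
  have hu'p : g * u₀ * g⁻¹ ∉ pw F := fun h => hu₀F (by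
    have hm : Mx Ω 2 4 u₀ := by
      have := (mx_of_pw c.hs c.hF h hu'o).1.conj g⁻¹
      rwa [show g⁻¹ * (g * u₀ * g⁻¹) * g⁻¹⁻¹ = u₀ by group] at this
    rw [← c.hc u₀ hu₀ hm]; exact mem_pw_fixedBy u₀)
  refine ⟨w⁻¹ * (g * u₀ * g⁻¹), Subgroup.mem_inf.2 ⟨mul_mem (inv_mem hw) hgM, ?_⟩, by rw [mul_inv_cancel_left]; exact hu'o,
    by rw [mul_inv_cancel_left]; exact c.pr_conj (c.hS hu₀) hpr g⟩
  have hne : permHom F ⟨g * u₀ * g⁻¹, hu'F⟩ ≠ 1 := fun e => hu'p (permHom_eq_one.1 e)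
  obtain ⟨i, hi⟩ := Subgroup.mem_zpowers_iff.1 hmem
  rcases Int.even_or_odd' i with ⟨j, rfl | rfl⟩
  · exfalso; refine hne ?_
    rw [← hi, zpow_mul, zpow_two, hσ2, one_zpow]
  · rw [zpow_add, zpow_mul, zpow_two, hσ2, one_zpow, one_mul, zpow_one, hσ] at hi
    exact (permHom_eq_one (F := F) (g := ⟨w, c.hS hw⟩⁻¹ * ⟨g * u₀ * g⁻¹, hu'F⟩)).1
      (by rw [map_mul, map_inv, hi, inv_mul_cancel])

/-- A normal elementary subgroup of order eight meets the kernel in at most two elements. -/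
theorem Ctx.no_eight (c : Ctx S F) {u₀ : G} (hu₀ : u₀ ∈ (S : Subgroup G)) (hu₀o : orderOf u₀ = 2)
    (hu₀F : u₀ ∉ pw F) (hpr : Pr F u₀) (B : Subgroup G) (hBS : B ≤ S) (hn : ∀ g ∈ (S : Subgroup G), ∀ b ∈ B, g * b * g⁻¹ ∈ B)
    (hsq : ∀ b ∈ B, b * b = 1) (hcomm : ∀ a ∈ B, ∀ b ∈ B, a * b = b * a) (h8 : Nat.card B = 8)
    (h4 : 4 ≤ Nat.card (B ⊓ pw F : Subgroup G)) : False := by
  haveI : Fact (Nat.Prime 2) := ⟨Nat.prime_two⟩
  classical
  by_cases hBQ : B ≤ pw F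
  · set C := B ⊓ Subgroup.centralizer ({u₀} : Set G)
    have h := H80.DihFour.card_le_fixed_sq B hsq hcomm u₀ (fun v hv => hn u₀ hu₀ v hv)
      (fun v _ => by rw [mul_self_of_orderOf hu₀o, one_mul, mul_one])
    have h3 : 2 < Nat.card C := by
      by_contra hle
      push Not at hle
      exact absurd (h.trans (Nat.mul_le_mul hle hle)) (by rw [h8]; norm_num)
    obtain ⟨⟨e, he⟩, -, he1⟩ : ∃ e : C, e ∈ (⊤ : Subgroup C) ∧ e ≠ 1 := by
      haveI : Nontrivial C := Finite.one_lt_card_iff_nontrivial.1 (by omega)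
      obtain ⟨e, he⟩ := exists_ne (1 : C)
      exact ⟨e, trivial, he⟩
    have hex : ∃ e' ∈ C, e' ≠ 1 ∧ e' ≠ e := by
      by_contra hall
      push Not at hall
      have : Nat.card C ≤ Nat.card ({1, e} : Finset G) := Nat.card_le_card_of_injective
        (fun x : C => (⟨(x : G), by
          by_cases hx : (x : G) = 1
          · simp [hx]
          · simp [hall x x.2 hx]⟩ : ({1, e} : Finset G))) fun x y h =>
            Subtype.ext (congrArg (fun t : ({1, e} : Finset G) => (t : G)) h)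
      rw [Nat.card_eq_finsetCard] at this
      have := this.trans Finset.card_le_two
      omega
    obtain ⟨e', he', he'1, hne⟩ := hex
    exact hne (c.unique hu₀o (c.hS hu₀) hu₀F hpr (hBQ he'.1) (hBQ he.1) (orderOf_of_sq (hsq _ he'.1) he'1)
      (orderOf_of_sq (hsq _ he.1) fun h => he1 (Subtype.ext h))
      (Subgroup.mem_centralizer_singleton_iff.1 he'.2) (Subgroup.mem_centralizer_singleton_iff.1 he.2))
  obtain ⟨w, hwB, hwF⟩ := SetLike.not_le_iff_exists.1 hBQ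
  have hwS := hBS hwB
  have hw2 := hsq w hwB
  have hwi : w⁻¹ = w := inv_eq_of_mul_eq_one_right hw2
  obtain ⟨q, hq, hqo, hqpr⟩ := c.pr_coset hu₀ hu₀o hu₀F hpr hwS hwF
  obtain ⟨hqS, hqF⟩ := Subgroup.mem_inf.1 hq
  have hwq : w * q * (w * q) = 1 := mul_self_of_orderOf hqo
  have huF : w * q ∈ stab F := c.hS (mul_mem hwS hqS)
  have hunp : w * q ∉ pw F := fun h => hwF (by simpa using mul_mem h (inv_mem hqF))
  have hwqw : w * q * w = q⁻¹ := eq_inv_of_mul_eq_one_left (by rw [← hwq]; group)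
  set P := B ⊓ pw F with hP
  have hwP : ∀ e ∈ P, w * e * w⁻¹ = e := fun e he => by
    rw [hcomm w hwB e he.1, mul_inv_cancel_right]
  have hconjP : ∀ e ∈ P, q * e * q⁻¹ ∈ P := fun e he =>
    Subgroup.mem_inf.2 ⟨hn q hqS e he.1, pw_conj (pw_le_stab F hqF) he.2⟩
  have hq2P : q * q ∈ P := by
    refine Subgroup.mem_inf.2 ⟨?_, mul_mem hqF hqF⟩
    have : q * q = q * w * q⁻¹ * w := by
      rw [← hwqw]
      calc q * q = q * (w * w) * q * (w * w) := by rw [hw2, mul_one, mul_one]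
        _ = _ := by group
    rw [this]
    exact mul_mem (hn q hqS w hwB) hwB
  have hucomm : ∀ e ∈ P, (w * q) * e * (w * q)⁻¹ = q * e * q⁻¹ := fun e he => by
    calc (w * q) * e * (w * q)⁻¹ = w * (q * e * q⁻¹) * w⁻¹ := by group
      _ = q * e * q⁻¹ := hwP _ (hconjP e he)
  have hnotall : ∃ e ∈ P, q * e * q⁻¹ ≠ e := by
    by_contra hall
    push Not at hall
    have hcu : ∀ e ∈ P, e * (w * q) = (w * q) * e := fun e he =>
      (mul_inv_eq_iff_eq_mul.1 ((hucomm e he).trans (hall e he))).symm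
    obtain ⟨⟨e, he⟩, he1⟩ : ∃ e : P, e ≠ 1 := by
      haveI : Nontrivial P := Finite.one_lt_card_iff_nontrivial.1 (by omega)
      exact exists_ne _
    have hex : ∃ e' ∈ P, e' ≠ 1 ∧ e' ≠ e := by
      by_contra hall'
      push Not at hall'
      have : Nat.card P ≤ Nat.card ({1, e} : Finset G) := Nat.card_le_card_of_injective
        (fun x : P => (⟨(x : G), by
          by_cases hx : (x : G) = 1
          · simp [hx]
          · simp [hall' x x.2 hx]⟩ : ({1, e} : Finset G))) fun x y h =>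
            Subtype.ext (congrArg (fun t : ({1, e} : Finset G) => (t : G)) h)
      rw [Nat.card_eq_finsetCard] at this
      have := this.trans Finset.card_le_two
      omega
    obtain ⟨e', he', he'1, hne⟩ := hex
    exact hne (c.unique hqo huF hunp hqpr he'.2 he.2 (orderOf_of_sq (hsq _ he'.1) he'1)
      (orderOf_of_sq (hsq _ he.1) fun h => he1 (Subtype.ext h)) (hcu e' he') (hcu e he))
  obtain ⟨e, he, hmove⟩ := hnotall
  have he2 : e * e = 1 := hsq e he.1
  have hf := hconjP e he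
  have hf2 : q * e * q⁻¹ * (q * e * q⁻¹) = 1 := hsq _ hf.1
  set d := e * (q * e * q⁻¹) with hd
  have hdP : d ∈ P := mul_mem he hf
  have hd1 : d ≠ 1 := fun h => hmove (by
    rw [hd] at h
    rw [← inv_eq_of_mul_eq_one_right h, inv_eq_of_mul_eq_one_right he2])
  have hdq : q * d * q⁻¹ = d := by
    calc q * d * q⁻¹ = q * e * q⁻¹ * ((q * q) * e * (q * q)⁻¹) := by rw [hd]; group
      _ = q * e * q⁻¹ * e := by rw [hcomm _ hq2P.1 e he.1, mul_inv_cancel_right]
      _ = d := hcomm _ hf.1 e he.1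
  have hdo : orderOf d = 2 := orderOf_of_sq (hsq d hdP.1) hd1
  have hdu : d * (w * q) = w * q * d := (mul_inv_eq_iff_eq_mul.1 ((hucomm d hdP).trans hdq)).symm
  have hqq : ∀ r : G, r ∈ pw F → r ≠ 1 → r * r = 1 → r * (w * q) = w * q * r → r = d := fun r hr hr1 hr2 hrc =>
    c.unique hqo huF hunp hqpr hr hdP.2 (orderOf_of_sq hr2 hr1) hdo hrc hdu
  by_cases hq2 : q * q = 1
  · have hqi : q⁻¹ = q := inv_eq_of_mul_eq_one_right hq2
    have hqc : q * (w * q) = w * q * q := by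
      rw [hqi] at hwqw
      calc q * (w * q) = w * q * w * (w * q) := by rw [hwqw]
        _ = w * q * (w * w) * q := by group
        _ = w * q * q := by rw [hw2, mul_one]
    have hq1 : q ≠ 1 := fun h => hmove (by rw [h, one_mul, inv_one, mul_one])
    have hqd := hqq q hqF hq1 hq2 hqc
    refine hmove ?_
    rw [mul_inv_eq_iff_eq_mul, hqd, hcomm d hdP.1 e he.1]
  · have hqe2 : q * e * (q * e) = 1 := by
      have hqqc := hcomm _ hq2P.1 e he.1
      have hqd : q * q = d := hqq _ hq2P.2 hq2 (hsq _ hq2P.1) (mul_inv_eq_iff_eq_mul.1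
        ((hucomm _ hq2P).trans (by group))).symm
      calc q * e * (q * e) = q * e * q⁻¹ * (q * q) * e := by group
        _ = q * e * q⁻¹ * (e * (q * e * q⁻¹)) * e := by rw [hqd]
        _ = q * e * q⁻¹ * (q * e * q⁻¹ * e) * e := by rw [hcomm e he.1 _ hf.1]
        _ = (q * e * q⁻¹ * (q * e * q⁻¹)) * (e * e) := by group
        _ = 1 := by rw [hf2, he2, one_mul]
    have hqe1 : q * e ≠ 1 := fun h => hmove (by
      rw [eq_inv_of_mul_eq_one_left h]; group)
    have hqec : q * e * (w * q) = w * q * (q * e) := by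
      have h1 : w * q * (q * e) * (w * q)⁻¹ = q * e := by
        have hi : (q * e)⁻¹ = q * e := inv_eq_of_mul_eq_one_right hqe2
        calc w * q * (q * e) * (w * q)⁻¹ = (w * q * q * (w * q)⁻¹) * ((w * q) * e * (w * q)⁻¹) := by group
          _ = (w * q * w⁻¹) * (q * e * q⁻¹) := by rw [hucomm e he]; group
          _ = q⁻¹ * (q * e * q⁻¹) := by rw [hwi, hwqw]
          _ = e * q⁻¹ := by group
          _ = (q * e)⁻¹ := by rw [mul_inv_rev, inv_eq_of_mul_eq_one_right he2]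
          _ = q * e := hi
      exact (mul_inv_eq_iff_eq_mul.1 h1).symm
    have hqd' := hqq (q * e) (mul_mem hqF he.2) hqe1 hqe2 hqec
    refine hmove ?_
    have hqP : q ∈ B := by
      have : q = d * e⁻¹ := eq_mul_inv_of_mul_eq hqd'
      rw [this]; exact mul_mem hdP.1 (inv_mem he.1)
    rw [mul_inv_eq_iff_eq_mul]
    exact hcomm q hqP e he.1

/-- The homomorphism onto the permutations of the common fixed set. -/
def Ctx.phi (c : Ctx S F) : (S : Subgroup G) →* Equiv.Perm F := (permHom F).comp (Subgroup.inclusion c.hS)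

theorem Ctx.bd (c : Ctx S F) {u₀ : G} (hu₀ : u₀ ∈ (S : Subgroup G)) (hu₀o : orderOf u₀ = 2)
    (hu₀F : u₀ ∉ pw F) (hpr : Pr F u₀) : H31.SR.Bd 4 (⊤ : Subgroup (S : Subgroup G)) := by
  haveI : Fact (Nat.Prime 2) := ⟨Nat.prime_two⟩
  have h2 : IsPGroup 2 (S : Subgroup G) := S.isPGroup'
  have hker : ∀ x : (S : Subgroup G), x ∈ c.phi.ker ↔ (x : G) ∈ pw F := fun x => by
    rw [MonoidHom.mem_ker]; exact permHom_eq_one
  have hno : ∀ B : Subgroup (S : Subgroup G), B.Normal → (∀ b ∈ B, b * b = 1) → (∀ a ∈ B, ∀ b ∈ B, a * b = b * a) →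
      Nat.card B = 8 → 4 ≤ Nat.card (B ⊓ c.phi.ker : Subgroup (S : Subgroup G)) → False := by
    intro B hBn hsq hcomm h8 h4
    refine c.no_eight hu₀ hu₀o hu₀F hpr (B.map (S : Subgroup G).subtype) (Subgroup.map_subtype_le _) ?_ ?_ ?_ ?_ ?_
    · rintro g hg _ ⟨b, hb, rfl⟩
      exact ⟨⟨g, hg⟩ * b * ⟨g, hg⟩⁻¹, hBn.conj_mem b hb _, rfl⟩
    · rintro _ ⟨b, hb, rfl⟩
      rw [← map_mul, hsq b hb, map_one]
    · rintro _ ⟨a, ha, rfl⟩ _ ⟨b, hb, rfl⟩
      rw [← map_mul, hcomm a ha b hb, map_mul]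
    · rw [Subgroup.card_map_of_injective (S : Subgroup G).subtype_injective, h8]
    · refine le_trans ?_ (Subgroup.card_le_of_le (H := (B ⊓ c.phi.ker).map (S : Subgroup G).subtype) ?_)
      · rw [Subgroup.card_map_of_injective (S : Subgroup G).subtype_injective]; exact h4
      · rintro _ ⟨b, hb, rfl⟩
        exact Subgroup.mem_inf.2 ⟨⟨b, hb.1, rfl⟩, (hker b).1 hb.2⟩
  by_cases hn : ∀ V : Subgroup (S : Subgroup G), V.Normal → IsMulCommutative V → (∀ a ∈ V, a ^ 2 = 1) → Nat.card V ≤ 4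
  · exact H31.SR.bd_of_sr (H73.MW.sectional_le_four h2 hn) _
  push Not at hn
  obtain ⟨V, hVn, hVc, hV2, hV4⟩ := hn
  haveI := hVn
  obtain ⟨B, hBn, -, hBV, hB8⟩ := Cfsg.Agent.H9.exists_normal_between h2 V 3
    (TG.card_pow_cases h2 V (n := 2) (by simpa using hV4)) ⊥ inferInstance bot_le (by simp)
  haveI := hBn
  have hBsq : ∀ x ∈ B, x * x = 1 := fun x hx => by rw [← pow_two]; exact hV2 x (hBV hx)
  have hBcomm : ∀ x ∈ B, ∀ y ∈ B, x * y = y * x := fun x hx y hy =>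
    Cfsg.Agent.H9.comm_of hVc x (hBV hx) y (hBV hy)
  have hsmall : H31.SR.Bd 2 c.phi.ker := by
    refine TG.bd_two_of_no_normal_four h2 c.phi.ker fun E hE hEn hEsq => ?_
    by_contra hE2
    haveI := hEn
    obtain ⟨E₄, hE₄n, -, hE₄E, hE₄⟩ := Cfsg.Agent.H9.exists_normal_between h2 E 2
      (TG.card_pow_cases h2 E (n := 1) (by omega)) ⊥ inferInstance bot_le (by simp)
    haveI := hE₄n
    have hE₄Q : E₄ ≤ c.phi.ker := hE₄E.trans hE
    have hEc : ∀ x ∈ E₄, ∀ y ∈ E₄, x * y = y * x := fun x hx y hy => by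
      rw [← inv_eq_of_mul_eq_one_right (hEsq _ (hE₄E (mul_mem hx hy))), mul_inv_rev,
        inv_eq_of_mul_eq_one_right (hEsq x (hE₄E hx)), inv_eq_of_mul_eq_one_right (hEsq y (hE₄E hy))]
    set C := B ⊓ Subgroup.centralizer (E₄ : Set (S : Subgroup G)) with hC
    have hBE : Nat.card (B ⊓ E₄ : Subgroup (S : Subgroup G)) ≤ 2 := by
      by_contra hgt
      exact hno B hBn hBsq hBcomm hB8 ((TG.card_pow_cases h2 _ (n := 1) (by omega)).trans
        (Subgroup.card_le_of_le (inf_le_inf_left B hE₄Q)))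
    obtain ⟨z, hzE, hz1, -, hzc⟩ := H30.SF.exists_layer_top h2 E₄ ⊥ bot_le (fun h => by
      have := Subgroup.card_le_of_le h
      rw [Subgroup.card_bot, hE₄] at this
      omega)
    rw [Subgroup.mem_bot] at hz1
    have hzc' : ∀ t, t * z = z * t := fun t =>
      commutatorElement_eq_one_iff_mul_comm.1 (Subgroup.mem_bot.1 (hzc t))
    obtain ⟨e, heE, hez⟩ : ∃ e ∈ E₄, e ∉ Subgroup.zpowers z := by
      refine SetLike.not_le_iff_exists.1 fun h => ?_
      have := Subgroup.card_le_of_le h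
      rw [hE₄, Nat.card_zpowers, orderOf_eq_prime (by rw [pow_two]; exact hEsq z (hE₄E hzE)) hz1] at this
      omega
    have he1 : e ≠ 1 := fun h => hez (h ▸ one_mem _)
    have hne : e ≠ z := fun h => hez (h ▸ Subgroup.mem_zpowers z)
    have hez1 : z * e ≠ 1 := fun h => hne ((eq_inv_of_mul_eq_one_right h).trans
      (inv_eq_of_mul_eq_one_right (hEsq z (hE₄E hzE))))
    have hel : ∀ x ∈ E₄, x = 1 ∨ x = z ∨ x = e ∨ x = z * e := fun x hx =>
      H30.SF.eq_of_four_le hE₄.le hzE heE (mul_mem hzE heE) hz1 he1 hez1 hne.symm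
        (fun h => he1 (mul_eq_left.1 h.symm)) (fun h => hz1 (mul_eq_right.1 h.symm)) hx
    have hmemC : ∀ b ∈ B, b * e * b⁻¹ = e → b ∈ C := fun b hb hbe => Subgroup.mem_inf.2 ⟨hb,
      Subgroup.mem_centralizer_iff.2 fun x hx => by
        rcases hel x hx with rfl | rfl | rfl | rfl
        · rw [one_mul, mul_one]
        · exact (hzc' b).symm
        · exact (mul_inv_eq_iff_eq_mul.1 hbe).symm
        · exact ((show Commute z b from (hzc' b).symm).mul_left (mul_inv_eq_iff_eq_mul.1 hbe).symm).eq⟩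
    have hdiff : ∀ b ∈ B, b ∉ C → b * e * b⁻¹ = z * e := fun b hb hbC => by
      rcases hel _ (hE₄n.conj_mem e heE b) with h | h | h | h
      · exact absurd (conj_eq_one_iff.1 h) he1
      · exfalso; refine hne ?_
        have := congrArg (fun t => b⁻¹ * t * b) h
        simp only [mul_assoc, inv_mul_cancel_left, inv_mul_cancel, mul_one] at this
        rw [this, ← hzc' b, inv_mul_cancel_left]
      · exact absurd (hmemC b hb h) hbC
      · exact h
    have hC4 : 4 ≤ Nat.card C := by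
      by_cases hall : B ≤ C
      · exact le_trans (by rw [hB8]; norm_num) (Subgroup.card_le_of_le hall)
      obtain ⟨t, ht, htC⟩ := SetLike.not_le_iff_exists.1 hall
      have hin : ∀ b ∈ B, b ∉ C → t⁻¹ * b ∈ C := fun b hb hbC => hmemC _ (mul_mem (inv_mem ht) hb) (by
        calc t⁻¹ * b * e * (t⁻¹ * b)⁻¹ = t⁻¹ * (b * e * b⁻¹) * t := by group
          _ = t⁻¹ * (t * e * t⁻¹) * t := by rw [hdiff b hb hbC, hdiff t ht htC]
          _ = e := by group)
      classical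
      have hle : Nat.card B ≤ Nat.card (C ⊕ C) := Nat.card_le_card_of_injective
        (fun b : B => if hb : (b : (S : Subgroup G)) ∈ C then Sum.inl ⟨_, hb⟩ else Sum.inr ⟨_, hin b b.2 hb⟩)
        (fun a b h => by
          simp only at h
          split_ifs at h with ha hb hb <;> simp at h <;> exact h)
      rw [Nat.card_sum, hB8] at hle
      omega
    haveI : C.Normal := by rw [hC]; infer_instance
    have hW : Cfsg.IsElementaryAbelian 2 (Subgroup.closure ((E₄ : Set (S : Subgroup G)) ∪ C)) := by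
      refine Cfsg.Agent.H9.elemAb_closure ?_ ?_
      · rintro a (ha | ha) b (hb | hb)
        · exact hEc a ha b hb
        · exact Subgroup.mem_centralizer_iff.1 (Subgroup.mem_inf.1 hb).2 a ha
        · exact (Subgroup.mem_centralizer_iff.1 (Subgroup.mem_inf.1 ha).2 b hb).symm
        · exact hBcomm a (Subgroup.mem_inf.1 ha).1 b (Subgroup.mem_inf.1 hb).1
      · rintro a (ha | ha)
        · rw [pow_two]; exact hEsq a (hE₄E ha)
        · rw [pow_two]; exact hBsq a (Subgroup.mem_inf.1 ha).1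
    rw [← Subgroup.sup_eq_closure] at hW
    have hW8 : 2 ^ 3 ≤ Nat.card (E₄ ⊔ C : Subgroup (S : Subgroup G)) := by
      refine TG.card_pow_cases h2 _ (n := 2) (lt_of_le_of_ne (hE₄ ▸ Subgroup.card_le_of_le le_sup_left) fun h => ?_)
      have hsub : C ≤ B ⊓ E₄ := fun x hx => Subgroup.mem_inf.2 ⟨(Subgroup.mem_inf.1 hx).1,
        (Subgroup.eq_of_le_of_card_ge (le_sup_left : E₄ ≤ E₄ ⊔ C) (by rw [hE₄, ← h])).ge (le_sup_right (a := E₄) hx)⟩
      have := (Subgroup.card_le_of_le hsub).trans hBE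
      omega
    obtain ⟨B', hB'n, hEB', hB'W, hB'8⟩ := Cfsg.Agent.H9.exists_normal_between h2 (E₄ ⊔ C) 3 hW8 E₄ hE₄n le_sup_left
      (by rw [hE₄]; norm_num)
    exact hno B' hB'n (fun x hx => by rw [← pow_two]; exact hW.2 x (hB'W hx))
      (fun x hx y hy => Cfsg.Agent.H9.comm_of hW.1 x (hB'W hx) y (hB'W hy)) hB'8
      (le_trans hE₄.ge (Subgroup.card_le_of_le (le_inf hEB' hE₄Q)))
  have h := H31.SR.bd_of_map_ker c.phi (r := 2) (s := 2) (K := ⊤)
    (H31.SR.bd_of_card_le (by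
      refine le_trans (le_of_eq ?_) (le_of_eq (c.card_img hu₀ hu₀o hu₀F))
      refine congrArg (fun K : Subgroup (Equiv.Perm F) => Nat.card K) (le_antisymm ?_ ?_)
      · rintro _ ⟨x, -, rfl⟩; exact ⟨Subgroup.inclusion c.hS x, x.2, rfl⟩
      · rintro _ ⟨⟨x, hx⟩, hxS, rfl⟩; exact ⟨⟨x, hxS⟩, trivial, rfl⟩)) (by rw [top_inf_eq]; exact hsmall)
  exact h

theorem Alpha.bd (hs : Setup G Ω 2 4) {T : Sylow 2 G} {F₁ F₂ : Set Ω} (ha : Alpha Ω 2 4 T F₁ F₂) :
    H31.SR.Bd 4 (⊤ : Subgroup (T : Subgroup G)) := by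
  haveI : Fact (Nat.Prime 2) := ⟨Nat.prime_two⟩
  set U := (T : Subgroup G) ⊓ stab F₁ with hU
  set W := (T : Subgroup G) ⊓ pw F₁ with hW
  set R := (T : Subgroup G) ⊓ stab F₁ ⊓ pw F₂ with hR
  have hU1 : U ≤ stab F₁ := inf_le_right
  have hU2 : U ≤ stab F₂ := fun g hg => ha.sub g hg.1 hg.2
  have hUW : U ⊓ pw F₁ = W := by rw [hU, hW, inf_assoc, inf_eq_right.2 (pw_le_stab F₁)]
  have hc1 : Nat.card F₁ ≤ 4 := by rw [Nat.card_coe_set_eq, ha.h₁.ncard]
  have hc2 : Nat.card F₂ ≤ 4 := by rw [Nat.card_coe_set_eq, ha.h₂.ncard]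
  have hp : IsPGroup 2 U := T.isPGroup'.to_le inf_le_left
  have key : ∀ X : Subgroup G, X ≤ T → Nat.card (X.subgroupOf T) = Nat.card X := fun X hX =>
    Nat.card_congr (Subgroup.subgroupOfEquivOfLe hX).toEquiv
  have hWle : W ≤ T := inf_le_left
  have hRle : R ≤ T := inf_le_left.trans inf_le_left
  have hpos : ∀ A B : Set Ω, A.ncard = 4 → B.ncard = 4 → A ≠ B → 0 < (A \ B).ncard := fun A B hA hB hne => by
    rw [Set.ncard_pos (Set.toFinite _), Set.sdiff_nonempty]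
    exact fun h => hne (Set.eq_of_subset_of_ncard_le h (by rw [hA, hB]) (Set.toFinite _))
  have hdiff : ∀ A B : Set Ω, A.ncard = 4 → (A \ B).ncard ≤ 4 := fun A B hA =>
    hA ▸ Set.ncard_le_ncard Set.sdiff_subset (Set.toFinite _)
  have hcomm : ∀ (F' : Set Ω), Nat.card F' ≤ 4 → U ≤ stab F' → (∀ x ∈ U, ∀ y ∈ U, ⁅x, y⁆ ∈ pw F') →
      Nat.card U ≤ 4 * Nat.card (U ⊓ pw F' : Subgroup G) := fun F' hc hUs hder => by
    rw [card_eq_pw_mul_img hUs, mul_comm]
    refine Nat.mul_le_mul_right _ (PS.comm_card_le_four hc _ (isPGroup_img F' hp) ?_)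
    rintro _ ⟨⟨a, ha'⟩, haU, rfl⟩ _ ⟨⟨b, hb'⟩, hbU, rfl⟩
    rw [← commutatorElement_eq_one_iff_mul_comm, ← map_commutatorElement]
    exact permHom_eq_one.2 (hder a haU b hbU)
  have h8 : ∀ (F' : Set Ω), Nat.card F' ≤ 4 → U ≤ stab F' → Nat.card U ≤ 8 * Nat.card (U ⊓ pw F' : Subgroup G) :=
    fun F' hc hUs => by
      rw [card_eq_pw_mul_img hUs, mul_comm]
      exact Nat.mul_le_mul_right _ (Nat.le_of_dvd (by norm_num) (PS.two_card_dvd_eight hc _ (isPGroup_img F' hp)))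
  refine TG.Pair.bd (U := U.subgroupOf T) (W := W.subgroupOf T) (R := R.subgroupOf T)
    ⟨T.isPGroup', ?_, ?_, ?_, ?_, ?_, ?_, ?_, ?_, ?_, ?_, ?_, ?_, ?_⟩
  · exact fun x hx => Subgroup.mem_inf.2 ⟨x.2, pw_le_stab F₁ (Subgroup.mem_inf.1 hx).2⟩
  · exact fun x hx => (Subgroup.mem_inf.1 hx).1
  · exact fun x hx y hy => Subgroup.mem_inf.2
      ⟨(x * y * x⁻¹).2, pw_conj (Subgroup.mem_inf.1 hx).2 (Subgroup.mem_inf.1 hy).2⟩
  · exact fun x hx y hy => Subgroup.mem_inf.2 ⟨Subgroup.mem_inf.2 ⟨(x * y * x⁻¹).2,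
        mul_mem (mul_mem (Subgroup.mem_inf.1 hx).2 (Subgroup.mem_inf.1 (Subgroup.mem_inf.1 hy).1).2)
          (inv_mem (Subgroup.mem_inf.1 hx).2)⟩,
      pw_conj (ha.sub x x.2 (Subgroup.mem_inf.1 hx).2) (Subgroup.mem_inf.1 hy).2⟩
  · exact fun x hx hx' => Subtype.ext (ha.disjoint hs x.2 hx.2 hx'.2)
  · obtain ⟨w, hw, hwF, hwo⟩ := ha.ex₁
    intro h
    have : (⟨w, hw⟩ : (T : Subgroup G)) ∈ W.subgroupOf T := ⟨hw, hwF⟩
    rw [h, Subgroup.mem_bot] at this
    rw [show w = 1 from congrArg Subtype.val this, orderOf_one] at hwo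
    omega
  · rw [key W hWle]
    exact (Nat.le_of_dvd (hpos _ _ ha.h₂.ncard ha.h₁.ncard ha.ne.symm) (ha.card_dvd hs).1).trans
      (hdiff _ _ ha.h₂.ncard)
  · rw [key R hRle]
    exact (Nat.le_of_dvd (hpos _ _ ha.h₁.ncard ha.h₂.ncard ha.ne) (ha.card_dvd hs).2).trans
      (hdiff _ _ ha.h₁.ncard)
  · rw [key U inf_le_left, key R hRle]; exact h8 F₂ hc2 hU2
  · rw [key U inf_le_left, key W hWle, ← hUW]; exact h8 F₁ hc1 hU1
  · intro h
    rw [key U inf_le_left, key R hRle]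
    exact hcomm F₂ hc2 hU2 fun x hx y hy => (h ⟨x, hx.1⟩ hx ⟨y, hy.1⟩ hy).2
  · intro h
    rw [key U inf_le_left, key W hWle, ← hUW]
    exact hcomm F₁ hc1 hU1 fun x hx y hy => (h ⟨x, hx.1⟩ hx ⟨y, hy.1⟩ hy).2
  · intro w hw hw2 hw1 g hg
    exact ⟨g.2, ha.centralizer_le hs w.2 hw.2 (fun e => hw1 (Subtype.ext e)) (congrArg Subtype.val hg)⟩

theorem sr_of_sylow (T : Sylow 2 G) (h : H31.SR.Bd 4 (⊤ : Subgroup (T : Subgroup G))) :
    Cfsg.SectionalPRankLE 2 4 G := by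
  refine H31.SR.sr_of_bd (Cfsg.Agent.S1235.bd_of_sylow T fun H K hH hs => ?_)
  exact Cfsg.Agent.S1235.bd_range (T : Subgroup G).subtype (T : Subgroup G).subtype_injective h H K
    (by rwa [Subgroup.range_subtype]) hs

/-- **Exactly four fixed points.** -/
theorem case_four (hna : ¬ IsMulCommutative G) (hs : Setup G Ω 2 4) (htr : IsPretransitive G Ω) :
    (∃ H : Subgroup G, Cfsg.IsStronglyEmbedded H) ∨ Cfsg.SectionalPRankLE 2 4 G := by
  haveI : Fact (Nat.Prime 2) := ⟨Nat.prime_two⟩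
  by_cases hb : ∀ (T : Sylow 2 G) (F₁ F₂ : Set Ω), ¬ Alpha Ω 2 4 T F₁ F₂
  · obtain ⟨T, F', hF, hT, hc, hd⟩ := exists_common hs hb
    have c : Ctx T F' := ⟨hna, hs, htr, hF, hT, hc, hd⟩
    by_cases hse : Cfsg.IsStronglyEmbedded (stab (G := G) F')
    · exact Or.inl ⟨_, hse⟩
    obtain ⟨u, hu, huo, huF, hpr⟩ := c.exists_pr hse
    exact Or.inr (sr_of_sylow T (c.bd hu huo huF hpr))
  · push Not at hb
    obtain ⟨T, F₁, F₂, ha⟩ := hb
    exact Or.inr (sr_of_sylow T (ha.bd hs))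

end H85.Fix4
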