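import Mathlib

/-! Facts on permutations of at most four points. -/

set_option autoImplicit false

namespace H85.Fix4.PS

open Equiv

theorem dvd_24 {α : Type*} [Finite α] (h : Nat.card α ≤ 4) : Nat.card (Perm α) ∣ 24 := by
  rw [Nat.card_perm]
  exact Nat.factorial_dvd_factorial h

theorem card_dvd {α : Type*} [Finite α] (h : Nat.card α ≤ 4) (H : Subgroup (Perm α)) : Nat.card H ∣ 24 :=
  (Subgroup.card_subgroup_dvd_card H).trans (dvd_24 h)

theorem two_card_le_two {α : Type*} [Finite α] (h : Nat.card α ≤ 3) (H : Subgroup (Perm α)) (h2 : IsPGroup 2 H) :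
    Nat.card H ≤ 2 := by
  haveI : Fact (Nat.Prime 2) := ⟨Nat.prime_two⟩
  obtain ⟨m, hm⟩ := IsPGroup.iff_card.1 h2
  have h1 : Nat.card H ∣ 6 := by
    refine (Subgroup.card_subgroup_dvd_card H).trans ?_
    rw [Nat.card_perm]
    exact Nat.factorial_dvd_factorial h
  rw [hm] at h1 ⊢
  rcases m with _ | _ | m
  · norm_num
  · norm_num
  · exact absurd ((Dvd.intro _ (by ring : 4 * 2 ^ m = 2 ^ (m + 1 + 1))).trans h1) (by decide)

theorem two_card_dvd_eight {α : Type*} [Finite α] (h : Nat.card α ≤ 4) (H : Subgroup (Perm α)) (h2 : IsPGroup 2 H) :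
    Nat.card H ∣ 8 := by
  haveI : Fact (Nat.Prime 2) := ⟨Nat.prime_two⟩
  obtain ⟨m, hm⟩ := IsPGroup.iff_card.1 h2
  have h1 := card_dvd h H
  rw [hm] at h1 ⊢
  have hm3 : m ≤ 3 := by
    by_contra hc
    exact absurd ((pow_dvd_pow 2 (show 4 ≤ m by omega)).trans h1) (by decide)
  exact (pow_dvd_pow 2 hm3)

theorem exists_eight : ∃ a b c : Perm (Fin 4), a * c = c * a ∧ b * c = c * b ∧ a * b ≠ b * a ∧
    Fintype.card {g : Perm (Fin 4) // g * c = c * g} = 8 := by
  refine ⟨Equiv.swap 0 1, Equiv.swap 0 2 * Equiv.swap 1 3, Equiv.swap 0 1 * Equiv.swap 2 3, ?_⟩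
  decide +kernel

theorem comm_card_le_four_fin (H : Subgroup (Perm (Fin 4))) (h2 : IsPGroup 2 H)
    (hc : ∀ x ∈ H, ∀ y ∈ H, x * y = y * x) : Nat.card H ≤ 4 := by
  haveI : Fact (Nat.Prime 2) := ⟨Nat.prime_two⟩
  have hd := two_card_dvd_eight (by simp) H h2
  by_contra h4
  have h8 : Nat.card H = 8 := by
    have := Nat.le_of_dvd (by norm_num) hd
    interval_cases h : Nat.card H <;> omega
  obtain ⟨a, b, c, hac, hbc, hab, hC⟩ := exists_eight
  set C := Subgroup.centralizer ({c} : Set (Perm (Fin 4)))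
  have hC8 : Nat.card C = 8 := by
    rw [← hC, ← Nat.card_eq_fintype_card]
    exact Nat.card_congr (Equiv.subtypeEquivRight fun g => Subgroup.mem_centralizer_singleton_iff)
  have hCp : IsPGroup 2 C := IsPGroup.of_card (n := 3) (by rw [hC8]; norm_num)
  have h24 : Nat.card (Perm (Fin 4)) = 24 := by simp [Nat.card_perm]; decide
  obtain ⟨T, hT⟩ := h2.exists_le_sylow
  obtain ⟨U, hU⟩ := hCp.exists_le_sylow
  have hTc : Nat.card (T : Subgroup (Perm (Fin 4))) ≤ 8 :=
    Nat.le_of_dvd (by norm_num) (two_card_dvd_eight (by simp) _ T.isPGroup')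
  have hHT : H = T := Subgroup.eq_of_le_of_card_ge hT (h8 ▸ hTc)
  obtain ⟨g, hg⟩ := MulAction.exists_smul_eq (Perm (Fin 4)) U T
  have hconj : ∀ x ∈ C, g * x * g⁻¹ ∈ H := fun x hx => by
    rw [hHT, ← hg, Sylow.coe_subgroup_smul]
    exact Subgroup.smul_mem_pointwise_smul _ (MulAut.conj g) _ (hU hx)
  have h := hc _ (hconj a (Subgroup.mem_centralizer_singleton_iff.2 hac)) _
    (hconj b (Subgroup.mem_centralizer_singleton_iff.2 hbc))
  exact hab (by
    have := congrArg (fun z => g⁻¹ * z * g) h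
    simpa [mul_assoc] using this)

/-- An abelian group of permutations of at most four points, of 2-power order, has order at most four. -/
theorem comm_card_le_four {α : Type*} [Finite α] (h : Nat.card α ≤ 4) (H : Subgroup (Perm α)) (h2 : IsPGroup 2 H)
    (hc : ∀ x ∈ H, ∀ y ∈ H, x * y = y * x) : Nat.card H ≤ 4 := by
  rcases Nat.lt_or_eq_of_le h with h3 | h4
  · exact (two_card_le_two (by omega) H h2).trans (by norm_num)
  let e : α ≃ Fin 4 := (Finite.equivFinOfCardEq h4)
  let φ : Perm α ≃* Perm (Fin 4) := e.permCongrHom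
  rw [Nat.card_congr (H.equivMapOfInjective φ.toMonoidHom φ.injective).toEquiv]
  refine comm_card_le_four_fin _ (h2.map _) ?_
  rintro _ ⟨x, hx, rfl⟩ _ ⟨y, hy, rfl⟩
  rw [← map_mul, ← map_mul, hc x hx y hy]

theorem even_two_fin : ∀ σ : Perm (Fin 4), Perm.sign σ = 1 → σ ^ 8 = 1 → σ * σ = 1 ∧ (σ ≠ 1 → ∀ i, σ i ≠ i) := by
  decide +kernel

theorem odd_commute_fin : ∀ u y : Perm (Fin 4), u * u = 1 → (∀ i, u i ≠ i) → y ^ 3 = 1 → u * y = y * u → y = 1 := by
  decide +kernel

/-- An even permutation of 2-power order of four points is an involution without fixed points, or trivial. -/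
theorem even_two {α : Type*} [Fintype α] [DecidableEq α] (h : Nat.card α = 4) (σ : Perm α)
    (hs : Perm.sign σ = 1) (h8 : σ ^ 8 = 1) : σ * σ = 1 ∧ (σ ≠ 1 → ∀ i, σ i ≠ i) := by
  let e : α ≃ Fin 4 := (Finite.equivFinOfCardEq h)
  let φ : Perm α ≃* Perm (Fin 4) := e.permCongrHom
  obtain ⟨h1, h2⟩ := even_two_fin (φ σ) ((Perm.sign_permCongr e σ).trans hs) (by rw [← map_pow, h8, map_one])
  refine ⟨φ.injective (by rw [map_mul, h1, map_one]), fun hne i hi => ?_⟩
  refine h2 (fun e' => hne (φ.injective (by rw [e', map_one]))) (e i) ?_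
  show e (σ (e.symm (e i))) = e i
  rw [Equiv.symm_apply_apply, hi]

theorem odd_commute {α : Type*} [Finite α] (h : Nat.card α = 4) (u y : Perm α) (hu : u * u = 1)
    (hfp : ∀ i, u i ≠ i) (hy : Odd (orderOf y)) (hc : u * y = y * u) : y = 1 := by
  let e : α ≃ Fin 4 := (Finite.equivFinOfCardEq h)
  let φ : Perm α ≃* Perm (Fin 4) := e.permCongrHom
  have hy3 : y ^ 3 = 1 := by
    have h24 : orderOf y ∣ 24 := (orderOf_dvd_natCard y).trans (dvd_24 h.le)
    refine orderOf_dvd_iff_pow_eq_one.1 ?_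
    have hcop : Nat.Coprime (orderOf y) 8 := by
      rw [show (8 : ℕ) = 2 ^ 3 by norm_num]
      exact Nat.Coprime.pow_right 3 (Nat.coprime_two_right.2 hy)
    exact hcop.dvd_of_dvd_mul_left (by simpa using h24)
  refine φ.injective ?_
  rw [map_one]
  refine odd_commute_fin (φ u) (φ y) (by rw [← map_mul, hu, map_one]) (fun i hi => hfp (e.symm i) ?_)
    (by rw [← map_pow, hy3, map_one]) (by rw [← map_mul, ← map_mul, hc])
  exact e.injective (hi.trans (e.apply_symm_apply i).symm)

/-- An even involution moves a multiple of four points. -/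
theorem four_dvd_moved {α : Type*} [Fintype α] [DecidableEq α] (σ : Perm α) (h2 : σ ^ 2 = 1)
    (hs : Perm.sign σ = 1) : 4 ∣ Fintype.card α - Fintype.card (Function.fixedPoints σ) := by
  have hrep : σ.cycleType = Multiset.replicate σ.cycleType.card 2 := Multiset.eq_replicate_card.2 fun n hn =>
    le_antisymm (Nat.le_of_dvd two_pos ((Perm.dvd_of_mem_cycleType hn).trans (orderOf_dvd_of_pow_eq_one h2)))
      (Perm.two_le_of_mem_cycleType hn)
  have h := Perm.sign_of_cycleType_eq_replicate two_pos hrep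
  rw [hs, if_neg (by decide)] at h
  have heven : Even ((Fintype.card α - Fintype.card (Function.fixedPoints σ)) / 2) :=
    (neg_one_pow_eq_one_iff_even (by decide : (-1 : ℤˣ) ≠ 1)).1 h.symm
  have hmod : 2 ∣ Fintype.card α - Fintype.card (Function.fixedPoints σ) := by
    have hsum := σ.sum_cycleType
    rw [hrep, Multiset.sum_replicate, smul_eq_mul] at hsum
    rw [show Fintype.card α - Fintype.card (Function.fixedPoints σ) = σ.support.card from ?_, ← hsum]
    · exact dvd_mul_left 2 _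
    · rw [Perm.card_fixedPoints, Perm.sum_cycleType]
      have := Finset.card_le_univ σ.support
      omega
  obtain ⟨j, hj⟩ := heven
  omega

/-- A semiregular permutation with an even number of cycles is even. -/
theorem sign_of_semiregular {α : Type*} [Fintype α] [DecidableEq α] (τ : Perm α) (o : ℕ) (ho : τ ^ o = 1)
    (hfree : ∀ (j : ℕ) (y : α), (τ ^ j) y = y → o ∣ j) (h : 2 * o ∣ Fintype.card α) : Perm.sign τ = 1 := by
  by_cases ho1 : o = 1
  · rw [ho1, pow_one] at ho; rw [ho, map_one]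
  rcases Nat.eq_zero_or_pos o with rfl | hpos
  · simp only [mul_zero, zero_dvd_iff] at h
    haveI := Fintype.card_eq_zero_iff.1 h
    rw [Subsingleton.elim τ 1, map_one]
  have hrep : τ.cycleType = Multiset.replicate τ.cycleType.card o := Multiset.eq_replicate_card.2 fun n hn => by
    refine Nat.dvd_antisymm ((Perm.dvd_of_mem_cycleType hn).trans (orderOf_dvd_of_pow_eq_one ho)) ?_
    obtain ⟨ρ, hρ, hρn⟩ : ∃ ρ ∈ τ.cycleFactorsFinset, ρ.support.card = n := by
      simpa [Perm.cycleType_def] using hn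
    obtain ⟨hc, hρτ⟩ := Perm.mem_cycleFactorsFinset_iff.1 hρ
    obtain ⟨y, hy⟩ := hc.nonempty_support
    refine hfree n y ?_
    rw [← Perm.cycleOf_pow_apply_self, ← Perm.cycle_is_cycleOf hy hρ, ← hρn, ← hc.orderOf, pow_orderOf_eq_one,
      Perm.one_apply]
  have hfix : IsEmpty (Function.fixedPoints τ) := ⟨fun y => ho1 (Nat.dvd_one.1 (hfree 1 y (by
    rw [pow_one]; exact y.2)))⟩
  rw [Perm.sign_of_cycleType_eq_replicate hpos hrep]
  split_ifs
  · rfl
  · rw [Fintype.card_eq_zero (α := Function.fixedPoints τ), Nat.sub_zero]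
    obtain ⟨c, hc⟩ := h
    refine Even.neg_one_pow ⟨c, ?_⟩
    rw [hc, show 2 * o * c = o * (c + c) by ring, Nat.mul_div_cancel_left _ hpos]

end H85.Fix4.PS
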