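import Mathlib
import Cfsg.Prelude.Def_CaseTheorems
import Cfsg.Agent.H31.MaxClassCrit
import Cfsg.Agent.H31.Taussky
import Cfsg.Agent.H30.SectFour.Main
import Cfsg.Agent.H9.NormalE2
import Cfsg.Agent.S1235
import Cfsg.Agent.S0218

/-!
Two facts on 2-groups: a small involution centraliser gives dihedral or semidihedral type, and a normal
subgroup without invariant four-groups has sectional rank at most two.
-/

set_option autoImplicit false
set_option linter.unusedSectionVars false
set_option linter.style.haveILetI false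

namespace H85.Fix4.TG

open H31.SR
open scoped commutatorElement

universe u

/-- An involution with a centraliser of order at most four, next to a second one commuting with it. -/
theorem maxClass {S : Type u} [Group S] [Finite S] (h2 : IsPGroup 2 S) {w v : S} (hw : orderOf w = 2)
    (hv : orderOf v = 2) (hne : v ≠ w) (hc : v * w = w * v)
    (h4 : Nat.card (Subgroup.centralizer ({w} : Set S)) ≤ 4) :
    (∃ n : ℕ, Nonempty (S ≃* DihedralGroup n)) ∨ Cfsg.IsQuasiDihedral S := by
  haveI : Fact (Nat.Prime 2) := ⟨Nat.prime_two⟩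
  set C := Subgroup.centralizer ({w} : Set S) with hC
  have hw1 : w ≠ 1 := fun e => by rw [e, orderOf_one] at hw; omega
  have hv1 : v ≠ 1 := fun e => by rw [e, orderOf_one] at hv; omega
  have hww : w * w = 1 := by rw [← pow_two, ← hw, pow_orderOf_eq_one]
  have hvv : v * v = 1 := by rw [← pow_two, ← hv, pow_orderOf_eq_one]
  have hwC : w ∈ C := H30.SF.mem_cent.2 rfl
  have hvC : v ∈ C := H30.SF.mem_cent.2 hc
  have hwv1 : w * v ≠ 1 := fun e => hne ((eq_inv_of_mul_eq_one_right e).trans (inv_eq_of_mul_eq_one_right hww))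
  have hel : ∀ x ∈ C, x = 1 ∨ x = w ∨ x = v ∨ x = w * v := fun x hx =>
    H30.SF.eq_of_four_le h4 hwC hvC (mul_mem hwC hvC) hw1 hv1 hwv1 (Ne.symm hne)
      (fun e => hv1 (mul_eq_left.1 e.symm)) (fun e => hw1 (mul_eq_right.1 e.symm)) hx
  have hsq : ∀ x ∈ C, x * x = 1 := by
    intro x hx
    rcases hel x hx with rfl | rfl | rfl | rfl
    · exact one_mul 1
    · exact hww
    · exact hvv
    · calc w * v * (w * v) = w * (v * w) * v := by group
        _ = w * w * (v * v) := by rw [hc]; group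
        _ = 1 := by rw [hww, hvv, one_mul]
  have hcard : Nat.card C = 4 := by
    obtain ⟨i, hi⟩ := (IsPGroup.iff_card.1 (h2.to_subgroup C))
    have h3 : 3 ≤ Nat.card C := by
      classical
      haveI := Fintype.ofFinite S
      calc 3 = ({1, w, v} : Finset S).card := by
            rw [Finset.card_insert_of_notMem (by simp [Ne.symm hw1, Ne.symm hv1]),
              Finset.card_insert_of_notMem (by simp [Ne.symm hne]), Finset.card_singleton]
        _ ≤ (C : Set S).toFinset.card := Finset.card_le_card (by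
              intro x hx
              simp only [Finset.mem_insert, Finset.mem_singleton] at hx
              rw [Set.mem_toFinset]
              rcases hx with rfl | rfl | rfl
              exacts [C.one_mem, hwC, hvC])
        _ = Nat.card C := by rw [Set.toFinset_card, ← Nat.card_eq_fintype_card]; rfl
    rcases i with _ | _ | _ | i
    · rw [hi, pow_zero] at h3; omega
    · rw [hi, pow_one] at h3; omega
    · rw [hi]; norm_num
    · rw [hi] at h4
      rw [pow_succ, pow_succ, pow_succ] at h4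
      have := Nat.one_le_two_pow (n := i); omega
  obtain ⟨k, hk⟩ := IsPGroup.iff_card.1 h2
  have hk2 : 2 ≤ k := by
    have h := Subgroup.card_le_card_group C
    rw [hcard, hk] at h
    rcases k with _ | _ | k
    · simp at h
    · simp at h
    · omega
  obtain ⟨m, rfl⟩ : ∃ m, k = m + 2 := ⟨k - 2, by omega⟩
  rcases m with _ | m
  · have htop : C = ⊤ := Subgroup.eq_top_of_card_eq C (by rw [hcard, hk]; norm_num)
    haveI : IsKleinFour S := by
      refine ⟨by rw [hk]; norm_num, Nat.dvd_antisymm (Monoid.exponent_dvd_of_forall_pow_eq_one fun x => ?_) ?_⟩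
      · rw [pow_two]; exact hsq x (htop ▸ Subgroup.mem_top x)
      · rw [← hw]; exact Monoid.order_dvd_exponent w
    exact Or.inl ⟨2, IsKleinFour.nonempty_mulEquiv⟩
  · have hcl := H31.nilpotencyClass_of_self_centralizing_sq (p := 2) (m + 1) hk C hcard (by
      intro x hx
      exact H30.SF.mem_cent.2 (Subgroup.mem_centralizer_iff.1 hx w hwC).symm)
    have hidx := H31.commutator_index_of_maxClass (p := 2) (n := m + 1 + 2) (by omega) hk (by rw [hcl]; omega)
    rcases H31.classify_index_four (n := m) hk hidx with ⟨j, hj⟩ | ⟨j, hj1, a, b, ha, hb, hab⟩ | ⟨j, ⟨e⟩⟩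
    · exact Or.inl ⟨_, hj⟩
    · refine Or.inr ⟨j + 3, by omega, by rw [hj1], a, b, ha, hb, ?_⟩
      rw [hab, show j + 3 - 1 = j + 2 by omega]
    · exfalso
      have h1 := (Nat.card_eq_one_iff_unique.1 (Cfsg.Agent.S0218.result j)).1
      have := h1.elim ⟨e w, by rw [e.orderOf_eq, hw]⟩ ⟨e v, by rw [e.orderOf_eq, hv]⟩
      exact hne (e.injective (congrArg Subtype.val this)).symm

variable {S : Type u} [Group S] [Finite S]

theorem bd_mono {r s : ℕ} (hrs : r ≤ s) {K : Subgroup S} (h : Bd r K) : Bd s K := fun H N hH hs =>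
  (h H N hH hs).trans (Nat.pow_le_pow_right two_pos hrs)

/-- A normal subgroup containing no invariant four-group has sectional rank at most two. -/
theorem bd_two_of_no_normal_four (h2 : IsPGroup 2 S) (N : Subgroup S) [N.Normal]
    (hN : ∀ E : Subgroup S, E ≤ N → E.Normal → (∀ x ∈ E, x * x = 1) → Nat.card E ≤ 2) : Bd 2 N := by
  haveI : Fact (Nat.Prime 2) := ⟨Nat.prime_two⟩
  obtain ⟨A, hAn, hAN, hAc, hAself⟩ := Cfsg.Agent.H9.exists_self_centralizing h2 N
  haveI := hAn
  have hcomm : ∀ x ∈ A, ∀ y ∈ A, x * y = y * x := fun x hx y hy =>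
    congrArg Subtype.val (hAc.is_comm.comm ⟨x, hx⟩ ⟨y, hy⟩)
  let W : Subgroup S :=
    { carrier := {x | x ∈ A ∧ x * x = 1}
      one_mem' := ⟨A.one_mem, one_mul 1⟩
      mul_mem' := fun {x y} hx hy => ⟨mul_mem hx.1 hy.1, by
        calc x * y * (x * y) = x * (y * x) * y := by group
          _ = (x * x) * (y * y) := by rw [hcomm y hy.1 x hx.1]; group
          _ = 1 := by rw [hx.2, hy.2, one_mul]⟩
      inv_mem' := fun {x} hx => ⟨inv_mem hx.1, by rw [← mul_inv_rev, hx.2, inv_one]⟩ }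
  have hW : Nat.card W ≤ 2 := hN W (fun x hx => hAN hx.1)
    ⟨fun x (hx : x ∈ A ∧ x * x = 1) g => ⟨hAn.conj_mem x hx.1 g, by
      calc g * x * g⁻¹ * (g * x * g⁻¹) = g * (x * x) * g⁻¹ := by group
        _ = 1 := by rw [hx.2]; group⟩⟩ (fun x hx => hx.2)
  obtain ⟨a, haA, hA⟩ := Cfsg.Agent.H9.isCyclic_of_omega_small h2 A hAc (fun E hE hEe =>
    (Subgroup.card_le_of_le (K := W) fun x hx => ⟨hE hx, by rw [← pow_two]; exact hEe.2 x hx⟩).trans hW)
  obtain ⟨m, hm⟩ := IsPGroup.iff_orderOf.1 h2 a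
  have hamem : ∀ x, x ∈ A → ∃ k : ℤ, a ^ k = x := fun x hx => Subgroup.mem_zpowers_iff.1 (hA ▸ hx)
  have hord : ∀ k : ℤ, a ^ k = 1 ↔ (2 : ℤ) ^ m ∣ k := fun k => by
    rw [← orderOf_dvd_iff_zpow_eq_one, hm]; push_cast; rfl
  have hcentA : ∀ y ∈ N, y * a = a * y → y ∈ A := fun y hy hya => by
    rw [← hAself]
    refine ⟨hy, Subgroup.mem_centralizer_iff.2 fun x hx => ?_⟩
    obtain ⟨k, rfl⟩ := hamem x hx
    exact ((show Commute y a from hya).zpow_right k).eq.symm
  rcases m with _ | _ | m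
  · have ha1 : a = 1 := orderOf_eq_one_iff.1 (by rw [hm, pow_zero])
    have hNA : N ≤ A := fun y hy => hcentA y hy (by rw [ha1, one_mul, mul_one])
    refine bd_mono one_le_two fun H K hH hs => Cfsg.Agent.S1235.bd_one_cyclic a H K ?_ hs
    exact hA ▸ hH.trans hNA
  · have hNA : N ≤ A := by
      intro y hy
      refine hcentA y hy ?_
      obtain ⟨k, hk⟩ := hamem _ (hAn.conj_mem a haA y)
      have hka : a ^ k = a := by
        rcases Int.even_or_odd' k with ⟨j, rfl | rfl⟩
        · exfalso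
          have h0 : a ^ (2 * j) = 1 := (hord _).2 (by simp)
          rw [h0] at hk
          have : a = 1 := conj_eq_one_iff.1 hk.symm
          rw [this, orderOf_one] at hm
          simp at hm
        · rw [zpow_add, zpow_one, (hord _).2 (by simp), one_mul]
      rw [hka, eq_mul_inv_iff_mul_eq] at hk
      exact hk.symm
    refine bd_mono one_le_two fun H K hH hs => Cfsg.Agent.S1235.bd_one_cyclic a H K ?_ hs
    exact hA ▸ hH.trans hNA
  set c := a ^ ((2 : ℤ) ^ m) with hcdef
  set z := a ^ ((2 : ℤ) ^ (m + 1)) with hzdef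
  have hcA : c ∈ A := A.zpow_mem haA _
  have hzA : z ∈ A := A.zpow_mem haA _
  have hcz : c * c = z := by rw [hcdef, hzdef, ← zpow_add, pow_succ, mul_two]
  have hz1 : z ≠ 1 := fun e => by
    have h := Int.le_of_dvd (by positivity) ((hord _).1 e)
    rw [pow_succ] at h
    have : (0 : ℤ) < 2 ^ (m + 1) := by positivity
    linarith
  have hzz : z * z = 1 := by rw [hzdef, ← zpow_add, hord]; exact ⟨1, by ring⟩
  have hA2 : ∀ x ∈ A, x * x = 1 → x = 1 ∨ x = z := by
    intro x hx hxx
    obtain ⟨k, rfl⟩ := hamem x hx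
    rw [← zpow_add, hord] at hxx
    obtain ⟨d, hd⟩ := hxx
    have hk : k = 2 ^ (m + 1) * d := by
      have : 2 * k = 2 * (2 ^ (m + 1) * d) := by rw [two_mul, hd]; ring
      linarith
    rcases Int.even_or_odd' d with ⟨j, rfl | rfl⟩
    · exact Or.inl ((hord _).2 ⟨j, by rw [hk]; ring⟩)
    · refine Or.inr ?_
      rw [hk, show (2 : ℤ) ^ (m + 1) * (2 * j + 1) = 2 ^ (m + 2) * j + 2 ^ (m + 1) by ring, zpow_add,
        (hord _).2 (dvd_mul_right _ _), one_mul]
  have hzc : ∀ g : S, g * z = z * g := by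
    intro g
    rcases hA2 _ (hAn.conj_mem z hzA g) (by
      calc g * z * g⁻¹ * (g * z * g⁻¹) = g * (z * z) * g⁻¹ := by group
        _ = 1 := by rw [hzz]; group) with h | h
    · exact absurd (conj_eq_one_iff.1 h) hz1
    · exact mul_inv_eq_iff_eq_mul.1 h
  have hc4 : ∀ g : S, g * c * g⁻¹ = c ∨ g * c * g⁻¹ = c⁻¹ := by
    intro g
    obtain ⟨k, hk⟩ := hamem _ (hAn.conj_mem c hcA g)
    have hk4 : a ^ (k + k + (k + k)) = 1 := by
      rw [zpow_add, zpow_add, hk]
      calc g * c * g⁻¹ * (g * c * g⁻¹) * (g * c * g⁻¹ * (g * c * g⁻¹)) = g * (c * c * (c * c)) * g⁻¹ := by group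
        _ = 1 := by rw [hcz, hzz]; group
    obtain ⟨d, hd⟩ := (hord _).1 hk4
    have hk' : k = 2 ^ m * d := by
      have : 4 * k = 4 * (2 ^ m * d) := by rw [show 4 * k = k + k + (k + k) by ring, hd]; ring
      linarith
    rcases Int.even_or_odd' d with ⟨j, rfl | rfl⟩
    · exfalso
      have h1 : (g * c * g⁻¹) * (g * c * g⁻¹) = 1 := by
        rw [← hk, ← zpow_add, hord]; exact ⟨j, by rw [hk']; ring⟩
      rw [show g * c * g⁻¹ * (g * c * g⁻¹) = g * (c * c) * g⁻¹ by group, hcz, conj_eq_one_iff] at h1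
      exact hz1 h1
    · rcases Int.even_or_odd' j with ⟨i, rfl | rfl⟩
      · left
        rw [← hk, hk', show (2 : ℤ) ^ m * (2 * (2 * i) + 1) = 2 ^ (m + 2) * i + 2 ^ m by ring, zpow_add,
          (hord _).2 (dvd_mul_right _ _), one_mul]
      · right
        rw [← hk, hk', show (2 : ℤ) ^ m * (2 * (2 * i + 1) + 1) = 2 ^ (m + 2) * (i + 1) + -(2 ^ m) by ring,
          zpow_add, (hord _).2 (dvd_mul_right _ _), one_mul, zpow_neg]
  -- the elements of `N` fixing `c` lie in `A`
  have hfix : ∀ y ∈ N, y * c = c * y → y ∈ A := by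
    let M : Subgroup S := N ⊓ Subgroup.centralizer ({c} : Set S)
    have hMn : M.Normal := ⟨fun y hy g => ⟨Subgroup.Normal.conj_mem inferInstance y hy.1 g, by
      refine Subgroup.mem_centralizer_singleton_iff.2 ?_
      have hyc : y * c = c * y := Subgroup.mem_centralizer_singleton_iff.1 hy.2
      have hg : y * (g⁻¹ * c * g) = g⁻¹ * c * g * y := by
        rcases hc4 g⁻¹ with h | h <;> rw [inv_inv] at h <;> rw [h]
        · exact hyc
        · exact ((show Commute y c from hyc).inv_right).eq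
      calc g * y * g⁻¹ * c = g * (y * (g⁻¹ * c * g)) * g⁻¹ := by group
        _ = c * (g * y * g⁻¹) := by rw [hg]; group⟩⟩
    suffices h : M ≤ A from fun y hy hyc => h ⟨hy, Subgroup.mem_centralizer_singleton_iff.2 hyc⟩
    by_contra hne
    obtain ⟨y, hyM, hyA, hyy, hyc⟩ := H30.SF.exists_layer_top h2 M A
      (fun x hx => ⟨hAN hx, Subgroup.mem_centralizer_singleton_iff.2 (hcomm x hx c hcA)⟩) hne
    obtain ⟨r, hr⟩ := hamem _ (hAn.conj_mem a haA y)
    have hconj : ∀ k : ℤ, y * a ^ k * y⁻¹ = a ^ (r * k) := fun k => by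
      rw [← MulAut.conj_apply, map_zpow, MulAut.conj_apply, ← hr, zpow_mul]
    have hr2 : (2 : ℤ) ^ (m + 2) ∣ r * r - 1 := by
      rw [← hord, sub_eq_add_neg, zpow_add, zpow_neg, zpow_one, mul_inv_eq_one, ← hconj, hr]
      calc y * (y * a * y⁻¹) * y⁻¹ = y * y * a * (y * y)⁻¹ := by group
        _ = a := by rw [hcomm _ hyy a haA, mul_inv_cancel_right]
    have hrc : (2 : ℤ) ^ (m + 2) ∣ 2 ^ m * r - 2 ^ m := by
      rw [← hord, sub_eq_add_neg, zpow_add, zpow_neg, mul_inv_eq_one, mul_comm ((2 : ℤ) ^ m) r, ← hconj]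
      have := Subgroup.mem_centralizer_singleton_iff.1 hyM.2
      exact mul_inv_eq_iff_eq_mul.2 this
    have hr4 : (4 : ℤ) ∣ r - 1 := by
      obtain ⟨d, hd⟩ := hrc
      refine ⟨d, mul_left_cancel₀ (pow_ne_zero m (two_ne_zero (α := ℤ))) ?_⟩
      rw [mul_sub, mul_one, hd]; ring
    have hr1 : ¬ (2 : ℤ) ^ (m + 2) ∣ r - 1 := fun h => hyA (hcentA y hyM.1 (by
      have := hconj 1
      rw [zpow_one, mul_one, show r = (r - 1) + 1 by ring, zpow_add, (hord _).2 h, one_mul, zpow_one] at this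
      exact mul_inv_eq_iff_eq_mul.1 this))
    obtain ⟨m, rfl⟩ : ∃ m', m = m' + 1 := by
      rcases m with _ | m
      · exact absurd (by simpa using hr4) hr1
      · exact ⟨m, rfl⟩
    have hr' : (2 : ℤ) ^ (m + 2) ∣ r - 1 := by
      rcases Cfsg.Agent.H9.two_pow_unit_cases (n := m + 1) (r := r) (by rw [pow_two]; exact hr2) with h | h
      · exact h
      · exfalso
        have h4 : (4 : ℤ) ∣ r + 1 :=
          (show (4 : ℤ) ∣ 2 ^ (m + 1 + 1) from ⟨2 ^ m, by ring⟩).trans h
        obtain ⟨d, hd⟩ := Int.dvd_sub h4 hr4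
        omega
    obtain ⟨t, ht⟩ := hr'
    obtain ⟨s, rfl⟩ : Odd t := by
      rw [← Int.not_even_iff_odd]
      rintro ⟨s, rfl⟩
      exact hr1 ⟨s, by rw [ht]; ring⟩
    have hrmod : ∀ k : ℤ, a ^ (r * k) = a ^ ((1 + 2 ^ (m + 2)) * k) := fun k => by
      rw [show r * k = 2 ^ (m + 1 + 2) * (s * k) + (1 + 2 ^ (m + 2)) * k by
        rw [show r = r - 1 + 1 by ring, ht]; ring, zpow_add, (hord _).2 (dvd_mul_right _ _), one_mul]
    obtain ⟨j, hj⟩ := hamem _ hyy
    have hjr : (2 : ℤ) ^ (m + 1 + 2) ∣ 2 ^ (m + 2) * j := by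
      rw [← hord]
      have h1 : a ^ ((1 + 2 ^ (m + 2)) * j) = a ^ j := by rw [← hrmod, ← hconj, hj]; group
      rwa [add_mul, one_mul, zpow_add, mul_eq_left] at h1
    obtain ⟨i, rfl⟩ : (2 : ℤ) ∣ j := by
      obtain ⟨d, hd⟩ := hjr
      exact ⟨d, mul_left_cancel₀ (pow_ne_zero (m + 2) (two_ne_zero (α := ℤ))) (by rw [hd]; ring)⟩
    have hsq : ∀ k : ℤ, y * a ^ k * (y * a ^ k) = a ^ ((1 + 2 ^ (m + 2)) * k + 2 * i + k) := fun k => by
      rw [zpow_add, zpow_add, ← hrmod, ← hconj, hj]; group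
    set y' := y * a ^ (-(i * (1 + 2 ^ (m + 1)))) with hy'
    have hy'2 : y' * y' = 1 := by
      rw [hy', hsq, hord]
      exact ⟨-(i * (1 + 2 ^ m)), by ring⟩
    have hy'A : y' ∉ A := fun h => hyA (by simpa [hy'] using mul_mem h (A.zpow_mem haA (i * (1 + 2 ^ (m + 1)))))
    have hy'N : y' ∈ N := mul_mem hyM.1 (hAN (A.zpow_mem haA _))
    have hy'1 : y' ≠ 1 := fun e => hy'A (e ▸ A.one_mem)
    have hzy : z * y' = y' * z := (hzc y').symm
    have hVn : (four z y' hzz hy'2 hzy).Normal := by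
      refine ⟨fun x hx g => ?_⟩
      have key : g * y' * g⁻¹ ∈ four z y' hzz hy'2 hzy := by
        set b := y'⁻¹ * (g * y' * g⁻¹) with hb
        have hbA : b ∈ A := by
          have e1 : b = a ^ (i * (1 + 2 ^ (m + 1))) * (y⁻¹ * ⁅g, y⁆ * y) *
              (g * a ^ (-(i * (1 + 2 ^ (m + 1)))) * g⁻¹) := by
            simp only [hb, hy', commutatorElement_def, zpow_neg]; group
          rw [e1]
          refine mul_mem (mul_mem (A.zpow_mem haA _) ?_) (hAn.conj_mem _ (A.zpow_mem haA _) g)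
          simpa using hAn.conj_mem _ (hyc g) y⁻¹
        have hgb : g * y' * g⁻¹ = y' * b := by rw [hb, mul_inv_cancel_left]
        obtain ⟨k, hk⟩ := hamem b hbA
        have hb2 : a ^ ((1 + 2 ^ (m + 2)) * k) * a ^ k = 1 := by
          have h1 : g * y' * g⁻¹ * (g * y' * g⁻¹) = 1 := by
            calc _ = g * (y' * y') * g⁻¹ := by group
              _ = 1 := by rw [hy'2]; group
          rw [hgb] at h1
          rw [← hrmod, ← hconj, hk]
          have e2 : y * b * y⁻¹ = y' * b * y'⁻¹ := by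
            rw [hy', ← hk]; group
          rw [e2]
          calc y' * b * y'⁻¹ * b = y' * b * y' * b := by rw [inv_eq_of_mul_eq_one_right hy'2]
            _ = 1 := by rw [← h1]; group
        rw [← zpow_add, hord] at hb2
        obtain ⟨d, hd⟩ := hb2
        have hbb : b * b = 1 := by
          rw [← hk, ← zpow_add, hord]
          refine ⟨d * (1 - 2 ^ (m + 1)) + 2 ^ m * k, ?_⟩
          linear_combination (1 - (2 : ℤ) ^ (m + 1)) * hd
        rw [hgb]
        refine mem_four.2 ?_
        rcases hA2 b hbA hbb with h | h <;> rw [h]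
        · exact Or.inr (Or.inr (Or.inl (mul_one y')))
        · exact Or.inr (Or.inr (Or.inr (hzc y')))
      have hzfix : g * z * g⁻¹ = z := mul_inv_eq_iff_eq_mul.2 (hzc g)
      rcases mem_four.1 hx with rfl | rfl | rfl | rfl
      · simp
      · rw [hzfix]; exact mem_four.2 (Or.inr (Or.inl rfl))
      · exact key
      · rw [show g * (z * y') * g⁻¹ = g * z * g⁻¹ * (g * y' * g⁻¹) by group, hzfix]
        exact mul_mem (mem_four.2 (Or.inr (Or.inl rfl))) key
    have hVc := hN _ (fun x hx => by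
        rcases mem_four.1 hx with rfl | rfl | rfl | rfl
        exacts [N.one_mem, hAN hzA, hy'N, mul_mem (hAN hzA) hy'N]) hVn (fun x hx => by
        rcases mem_four.1 hx with rfl | rfl | rfl | rfl
        exacts [one_mul 1, hzz, hy'2, by
          calc z * y' * (z * y') = z * (y' * z) * y' := by group
            _ = z * z * (y' * y') := by rw [← hzy]; group
            _ = 1 := by rw [hzz, hy'2, one_mul]])
    rw [card_four hz1 hy'1 (fun e => hy'A (e ▸ hzA))] at hVc
    omega
  by_cases hNA : N ≤ A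
  · refine bd_mono one_le_two fun H K hH hs => Cfsg.Agent.S1235.bd_one_cyclic a H K ?_ hs
    exact hA ▸ hH.trans hNA
  obtain ⟨x, hxN, hxA⟩ := SetLike.not_le_iff_exists.1 hNA
  have hxc : x * c * x⁻¹ = c⁻¹ := (hc4 x).resolve_left fun h => hxA (hfix x hxN (mul_inv_eq_iff_eq_mul.1 h))
  have hinv : ∀ y ∈ N, y ∉ A → y⁻¹ * x ∈ A := by
    intro y hy hyA
    refine hfix _ (mul_mem (inv_mem hy) hxN) (mul_inv_eq_iff_eq_mul.1 ?_)
    have hyc : y * c * y⁻¹ = c⁻¹ := (hc4 y).resolve_left fun h => hyA (hfix y hy (mul_inv_eq_iff_eq_mul.1 h))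
    calc y⁻¹ * x * c * (y⁻¹ * x)⁻¹ = y⁻¹ * (x * c * x⁻¹) * y := by group
      _ = y⁻¹ * (y * c * y⁻¹) * y := by rw [hxc, hyc]
      _ = c := by group
  have hcent : ∀ y ∈ A, y * x = x * y → y = 1 ∨ y = z := by
    intro y hy hyx
    refine hA2 y hy ?_
    obtain ⟨k, rfl⟩ := hamem y hy
    rw [← zpow_add, hord]
    by_contra hne
    obtain ⟨v, hv, hgcd⟩ := (Nat.dvd_prime_pow Nat.prime_two).1
      (show Int.gcd k ((2 : ℤ) ^ (m + 2)) ∣ 2 ^ (m + 2) by
        have := Int.gcd_dvd_right k ((2 : ℤ) ^ (m + 2))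
        exact_mod_cast this)
    have hvm : v ≤ m := by
      by_contra hv'
      refine hne ?_
      have h1 : (2 : ℤ) ^ (m + 1) ∣ k := (pow_dvd_pow 2 (by omega : m + 1 ≤ v)).trans (by
        have := Int.gcd_dvd_left k ((2 : ℤ) ^ (m + 2))
        rw [hgcd] at this
        exact_mod_cast this)
      obtain ⟨d, rfl⟩ := h1
      exact ⟨d, by ring⟩
    have hcy : c ∈ Subgroup.zpowers (a ^ k) := by
      rw [Subgroup.mem_zpowers_iff]
      refine ⟨Int.gcdA k (2 ^ (m + 2)) * 2 ^ (m - v), ?_⟩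
      have hb := Int.gcd_eq_gcd_ab k ((2 : ℤ) ^ (m + 2))
      rw [hgcd] at hb
      push_cast at hb
      have e : (2 : ℤ) ^ m = 2 ^ v * 2 ^ (m - v) := by rw [← pow_add]; congr 1; omega
      rw [hcdef, e, hb, ← zpow_mul, add_mul, zpow_add,
        (hord (2 ^ (m + 2) * Int.gcdB k (2 ^ (m + 2)) * 2 ^ (m - v))).2 ⟨_, mul_assoc _ _ _⟩, mul_one]
      congr 1
      ring
    obtain ⟨e, he⟩ := Subgroup.mem_zpowers_iff.1 hcy
    have hcx : c * x = x * c := by rw [← he]; exact ((show Commute (a ^ k) x from hyx).zpow_left e).eq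
    have h2c : x * c * x⁻¹ = c := by rw [← hcx]; group
    rw [hxc, inv_eq_iff_mul_eq_one, hcz] at h2c
    exact hz1 h2c
  have hcard : Nat.card (Subgroup.centralizer ({(⟨x, hxN⟩ : N)} : Set N)) ≤ 4 := by
    classical
    haveI := Fintype.ofFinite S
    have hsub : ∀ y : Subgroup.centralizer ({(⟨x, hxN⟩ : N)} : Set N),
        ((y : N) : S) ∈ ({1, z, x, x * z} : Finset S) := by
      rintro ⟨⟨y, hy⟩, hyc⟩
      have hyx : y * x = x * y := congrArg Subtype.val (Subgroup.mem_centralizer_singleton_iff.1 hyc)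
      simp only [Finset.mem_insert, Finset.mem_singleton]
      by_cases hyA : y ∈ A
      · rcases hcent y hyA hyx with h | h <;> simp [h]
      · rcases hcent _ (hinv y hy hyA) (show y⁻¹ * x * x = x * (y⁻¹ * x) by
          rw [← mul_assoc x, ((show Commute y x from hyx).inv_left).eq]) with h | h
        · exact Or.inr (Or.inr (Or.inl (inv_mul_eq_one.1 h)))
        · refine Or.inr (Or.inr (Or.inr ?_))
          have : x = y * z := inv_mul_eq_iff_eq_mul.1 h
          rw [this, mul_assoc, hzz, mul_one]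
    calc Nat.card (Subgroup.centralizer ({(⟨x, hxN⟩ : N)} : Set N)) ≤ Nat.card ({1, z, x, x * z} : Finset S) :=
          Nat.card_le_card_of_injective (fun y => ⟨_, hsub y⟩) fun y y' h =>
            Subtype.ext (Subtype.ext (congrArg (fun t : ({1, z, x, x * z} : Finset S) => (t : S)) h))
      _ ≤ 4 := by rw [Nat.card_eq_finsetCard]; exact Finset.card_le_four
  have h := H30.SF.bd_two _ (h2.to_subgroup N) rfl _ hcard
  intro H K hH hs
  exact Cfsg.Agent.S1235.bd_range N.subtype N.subtype_injective h H K (by rwa [Subgroup.range_subtype]) hs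

end H85.Fix4.TG
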