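import Cfsg.Agent.H85.Fix4.Basic
import Cfsg.Agent.H85.Fix4.PermSmall
import Cfsg.Agent.H85.Fix4.TwoGroup
import Cfsg.Agent.H6.Transfer
import Cfsg.Prelude.Def_Involutions

/-!
Largest fixed point number of an involution between one and three: a strongly embedded subgroup, or dihedral
or semidihedral Sylow 2-subgroups.
-/

set_option autoImplicit false
set_option linter.unusedSectionVars false
set_option linter.style.haveILetI false

namespace H85.Fix4

open MulAction

variable {G : Type*} [Group G] [Finite G] {Ω : Type*} [MulAction G Ω] [Finite Ω] {k : ℕ}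

theorem no_index_two [IsSimpleGroup G] (hna : ¬ IsMulCommutative G) (M : Subgroup G) [M.Normal] :
    M.index ≠ 2 := by
  intro h
  rcases IsSimpleGroup.eq_bot_or_eq_top_of_normal M inferInstance with rfl | rfl
  · rw [Subgroup.index_bot] at h
    haveI : Fact (Nat.Prime 2) := ⟨Nat.prime_two⟩
    haveI := isCyclic_of_prime_card (α := G) h
    exact hna IsCyclic.isMulCommutative
  · rw [Subgroup.index_top] at h; omega

/-- No involution outside a subgroup of index two consisting of kernel elements, if all of those are maximal. -/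
theorem mem_pw_of_index_two [IsSimpleGroup G] (hna : ¬ IsMulCommutative G) (hs : Setup G Ω 2 k) {S : Sylow 2 G}
    {F : Set Ω} (hF : MaxSet G 2 k F) (hc : ∀ w ∈ (S : Subgroup G), Mx Ω 2 k w → fixedBy Ω w = F)
    (hi : ((S : Subgroup G) ⊓ pw F).relIndex S = 2) {u : G} (hu : u ∈ (S : Subgroup G)) (huo : orderOf u = 2) :
    u ∈ pw F := by
  haveI : Fact (Nat.Prime 2) := ⟨Nat.prime_two⟩
  rcases H6.thompson_transfer S _ inf_le_left hi u huo with ⟨M, hM, hMi, -⟩ | ⟨g, hg⟩
  · haveI := hM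
    exact absurd hMi (no_index_two hna M)
  · obtain ⟨hm, -⟩ := mx_of_pw hs hF hg.2 (by rw [← MulAut.conj_apply, MulEquiv.orderOf_eq]; exact huo)
    have hu' : Mx Ω 2 k u := by
      have h := hm.conj g⁻¹
      rwa [show g⁻¹ * (g * u * g⁻¹) * g⁻¹⁻¹ = u by group] at h
    rw [← hc u hu hu']
    exact mem_pw_fixedBy u

/-- The permutation group induced on `F` by a subgroup of the stabiliser. -/
def img (F : Set Ω) (X : Subgroup G) : Subgroup (Equiv.Perm F) := (X.subgroupOf (stab F)).map (permHom F)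

theorem isPGroup_img {p : ℕ} (F : Set Ω) {X : Subgroup G} (hX : IsPGroup p X) : IsPGroup p (img F X) :=
  (hX.comap_of_injective _ (stab F).subtype_injective).map _

theorem card_eq_pw_mul_img {F : Set Ω} {X : Subgroup G} (hX : X ≤ stab F) :
    Nat.card X = Nat.card (X ⊓ pw F : Subgroup G) * Nat.card (img F X) := by
  have h1 := H31.SR.card_eq_map_mul (permHom F) (X.subgroupOf (stab F))
  rw [Nat.card_congr (Subgroup.subgroupOfEquivOfLe hX).toEquiv] at h1
  rw [h1, mul_comm, img]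
  congr 1
  refine Nat.card_congr ⟨fun x => ⟨x.1, ?_⟩, fun x => ⟨⟨x.1, hX x.2.1⟩, ?_⟩, fun x => rfl, fun x => rfl⟩
  · exact ⟨x.2.1, permHom_eq_one.1 x.2.2⟩
  · exact ⟨x.2.1, permHom_eq_one.2 x.2.2⟩

theorem relIndex_eq_img {F : Set Ω} {X : Subgroup G} (hX : X ≤ stab F) :
    (X ⊓ pw F).relIndex X = Nat.card (img F X) := by
  have h1 := H31.SR.relIndex_mul_card (inf_le_left : X ⊓ pw F ≤ X)
  rw [card_eq_pw_mul_img hX, mul_comm] at h1
  exact Nat.eq_of_mul_eq_mul_left Nat.card_pos h1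

theorem isStronglyEmbedded_of_all (hs : Setup G Ω 2 k) (htr : IsPretransitive G Ω) {S : Sylow 2 G} {F : Set Ω}
    (hF : MaxSet G 2 k F) (hS : (S : Subgroup G) ≤ stab F)
    (hall : ∀ w ∈ (S : Subgroup G), orderOf w = 2 → w ∈ pw F) :
    Cfsg.IsStronglyEmbedded (stab (G := G) F) := by
  haveI : Fact (Nat.Prime 2) := ⟨Nat.prime_two⟩
  obtain ⟨h1, h2, h3⟩ := embedded_of_all hs htr hF hS hall
  exact ⟨h1, even_iff_two_dvd.2 h2, fun g hg => by
    rw [← Nat.not_even_iff_odd, even_iff_two_dvd]; exact h3 g hg⟩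

theorem mul_self_of_orderOf {w : G} (h : orderOf w = 2) : w * w = 1 := by
  rw [← pow_two, ← h, pow_orderOf_eq_one]

theorem orderOf_of_sq {w : G} (h : w * w = 1) (h1 : w ≠ 1) : orderOf w = 2 :=
  orderOf_eq_prime_iff.2 ⟨by rw [pow_two]; exact h, h1⟩

theorem two_le_card_of_mem {X : Subgroup G} {w : G} (hw : w ∈ X) (hwo : orderOf w = 2) : 2 ≤ Nat.card X :=
  Nat.le_of_dvd Nat.card_pos (hwo ▸ Subgroup.orderOf_dvd_natCard X hw)

theorem card_eq_two_of_dvd {X : Subgroup G} (hX : IsPGroup 2 X) {n : ℕ} (hn : n ≤ 3) {w : G} (hw : w ∈ X)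
    (hwo : orderOf w = 2) (hd : Nat.card X ∣ n) (hpos : 0 < n) : Nat.card X = 2 := by
  haveI : Fact (Nat.Prime 2) := ⟨Nat.prime_two⟩
  have h2 := two_le_card_of_mem hw hwo
  have h3 := Nat.le_of_dvd hpos hd
  obtain ⟨i, hi⟩ := IsPGroup.iff_card.1 hX
  rcases i with _ | _ | i
  · rw [hi, pow_zero] at h2; omega
  · rw [hi, pow_one]
  · have := Nat.one_le_two_pow (n := i)
    rw [hi, pow_succ, pow_succ] at h3
    omega

/-- **At most three fixed points.** -/
theorem case_le_three [IsSimpleGroup G] (hna : ¬ IsMulCommutative G) (hs : Setup G Ω 2 k) (hk : k ≤ 3)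
    (htr : IsPretransitive G Ω) (S : Sylow 2 G) :
    (∃ H : Subgroup G, Cfsg.IsStronglyEmbedded H) ∨
      (∃ n : ℕ, Nonempty ((S : Subgroup G) ≃* DihedralGroup n)) ∨ Cfsg.IsQuasiDihedral (S : Subgroup G) := by
  haveI : Fact (Nat.Prime 2) := ⟨Nat.prime_two⟩
  by_cases hb : ∀ (T : Sylow 2 G) (F₁ F₂ : Set Ω), ¬ Alpha Ω 2 k T F₁ F₂
  · left
    obtain ⟨T, F, hF, hT, hc, -⟩ := exists_common hs hb
    refine ⟨_, isStronglyEmbedded_of_all hs htr hF hT fun u hu huo => ?_⟩
    have h2 := PS.two_card_le_two (by rw [Nat.card_coe_set_eq, hF.ncard]; exact hk) _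
      (isPGroup_img F T.isPGroup')
    rw [← relIndex_eq_img hT] at h2
    rcases Nat.lt_or_eq_of_le h2 with h | h
    · have h1 : ((T : Subgroup G) ⊓ pw F).relIndex T = 1 := by
        have : ((T : Subgroup G) ⊓ pw F).relIndex T ≠ 0 := by rw [relIndex_eq_img hT]; exact Nat.card_pos.ne'
        omega
      exact ((Subgroup.relIndex_eq_one.1 h1) hu).2
    · exact mem_pw_of_index_two hna hs hF hc h hu huo
  · right
    push Not at hb
    obtain ⟨T, F₁, F₂, ha⟩ := hb
    obtain ⟨w, hwT, hw, hwo⟩ := ha.ex₁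
    obtain ⟨r, hrT, hr1, hr2, hro⟩ := ha.ex₂
    have hd1 : (F₂ \ F₁).ncard ≤ 3 :=
      ((Set.ncard_le_ncard Set.sdiff_subset (Set.toFinite _)).trans ha.h₂.ncard.le).trans hk
    have hne : (F₂ \ F₁).Nonempty := by
      rw [Set.sdiff_nonempty]
      exact fun h => ha.ne (Set.eq_of_subset_of_ncard_le h (by rw [ha.h₁.ncard, ha.h₂.ncard])
        (Set.toFinite _)).symm
    set W := (T : Subgroup G) ⊓ pw F₁ with hW
    have hW2 : Nat.card W = 2 := card_eq_two_of_dvd (T.isPGroup'.to_le inf_le_left) hd1 ⟨hwT, hw⟩ hwo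
      (ha.card_dvd hs).1 ((Set.ncard_pos (Set.toFinite _)).2 hne)
    set U := (T : Subgroup G) ⊓ stab F₁ with hU
    have hU4 : Nat.card U ≤ 4 := by
      rw [card_eq_pw_mul_img (inf_le_right : U ≤ stab F₁),
        show U ⊓ pw F₁ = W by rw [hU, hW, inf_assoc, inf_eq_right.2 (pw_le_stab F₁)], hW2]
      have := PS.two_card_le_two (by rw [Nat.card_coe_set_eq, ha.h₁.ncard]; exact hk) _
        (isPGroup_img F₁ (T.isPGroup'.to_le (inf_le_left : U ≤ T)))
      omega
    have hw1 : w ≠ 1 := fun e => by rw [e, orderOf_one] at hwo; omega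
    have hWmem : ∀ x ∈ W, x = 1 ∨ x = w := by
      intro x hx
      have h' : Subgroup.zpowers w = W := Subgroup.eq_of_le_of_card_ge
        (Subgroup.zpowers_le.2 (Subgroup.mem_inf.2 ⟨hwT, hw⟩)) (by rw [Nat.card_zpowers, hwo, hW2])
      rw [← h', Subgroup.mem_zpowers_iff] at hx
      obtain ⟨i, rfl⟩ := hx
      rcases Int.even_or_odd' i with ⟨j, rfl | rfl⟩
      · left; rw [zpow_mul, zpow_two, mul_self_of_orderOf hwo, one_zpow]
      · right; rw [zpow_add, zpow_mul, zpow_two, mul_self_of_orderOf hwo, one_zpow, one_mul, zpow_one]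
    have hrw : r * w * r⁻¹ = w :=
      (hWmem _ (Subgroup.mem_inf.2 ⟨mul_mem (mul_mem hrT hwT) (inv_mem hrT), pw_conj hr1 hw⟩)).resolve_left
        fun e => hw1 (conj_eq_one_iff.1 e)
    have hrne : r ≠ w := fun e => hw1 (ha.disjoint hs hwT hw (e ▸ hr2))
    have hC : Nat.card (Subgroup.centralizer ({(⟨w, hwT⟩ : (T : Subgroup G))} : Set (T : Subgroup G))) ≤ 4 := by
      refine le_trans (Nat.card_le_card_of_injective (fun x => (⟨((x : (T : Subgroup G)) : G), ?_⟩ : U)) ?_) hU4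
      · exact ⟨x.1.2, ha.centralizer_le hs hwT hw hw1
          (congrArg Subtype.val (Subgroup.mem_centralizer_singleton_iff.1 x.2))⟩
      · exact fun x y h => Subtype.ext (Subtype.ext (congrArg (fun t : U => (t : G)) h))
    rcases TG.maxClass T.isPGroup' (w := ⟨w, hwT⟩) (v := ⟨r, hrT⟩) (by rw [Subgroup.orderOf_mk, hwo])
        (by rw [Subgroup.orderOf_mk, hro]) (fun e => hrne (congrArg Subtype.val e))
        (Subtype.ext (mul_inv_eq_iff_eq_mul.1 hrw)) hC with ⟨n, ⟨e⟩⟩ | ⟨n, hn, hcard, x, y, hx, hy, hxy⟩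
    · exact Or.inl ⟨n, ⟨(S.equiv T).trans e⟩⟩
    · refine Or.inr ⟨n, hn, by rw [Nat.card_congr (S.equiv T).toEquiv, hcard], (S.equiv T).symm x,
        (S.equiv T).symm y, by rw [MulEquiv.orderOf_eq, hx], by rw [MulEquiv.orderOf_eq, hy], ?_⟩
      rw [← map_inv, ← map_mul, ← map_mul, hxy, map_pow]

end H85.Fix4
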